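import Cfsg.Agent.Lib.ExtraSpEight.Five

/-!
The block model of an extraspecial group of order 128 of minus type in `Sp₈`, elements of its normaliser, and
the centraliser of a diagonal involution in an overgroup of the normaliser.
-/

set_option autoImplicit false
set_option linter.unusedSectionVars false
set_option linter.unusedSimpArgs false

namespace CfsgLib.ExtraSpEight

open Matrix Cfsg CfsgLib.Sp4Odd CfsgLib.PrimeElusive.SymplType

open scoped MatrixGroups

variable {F : Type*} [Field F]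

/-- The index set of a four-dimensional block. -/
abbrev I4 := Fin 2 ⊕ Fin 2

/-- The group of invertible matrices in two blocks. -/
abbrev G8 (F : Type*) [Field F] := GL (I4 ⊕ I4) F

/-- The sum of two standard alternating matrices. -/
def J8 (F : Type*) [Field F] : Matrix (I4 ⊕ I4) (I4 ⊕ I4) F :=
  fromBlocks (J (Fin 2) F) 0 0 (J (Fin 2) F)

/-- The isometries of the doubled form. -/
def sp8 (F : Type*) [Field F] : Subgroup (G8 F) where
  carrier := {g | (mt g)ᵀ * J8 F * mt g = J8 F}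
  one_mem' := by show (mt (1 : G8 F))ᵀ * J8 F * mt (1 : G8 F) = J8 F; simp [PrimeElusive.SymplType.mt]
  mul_mem' := by
    intro a b (ha : (mt a)ᵀ * J8 F * mt a = J8 F) (hb : (mt b)ᵀ * J8 F * mt b = J8 F)
    show (mt a * mt b)ᵀ * J8 F * (mt a * mt b) = J8 F
    rw [Matrix.transpose_mul, mul_assoc (mt b)ᵀ, mul_assoc (mt b)ᵀ, ← mul_assoc _ (mt a), ha, ← mul_assoc]
    exact hb
  inv_mem' := by
    intro a (ha : (mt a)ᵀ * J8 F * mt a = J8 F)
    show (mt a⁻¹)ᵀ * J8 F * mt a⁻¹ = J8 F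
    conv_lhs => rw [← ha]
    rw [← mul_assoc, ← mul_assoc, ← Matrix.transpose_mul, mul_assoc _ (mt a), ← Units.val_mul, mul_inv_cancel]
    simp [PrimeElusive.SymplType.mt]

theorem mem_sp8 {g : G8 F} : g ∈ sp8 F ↔ (mt g)ᵀ * J8 F * mt g = J8 F := Iff.rfl

/-- A block diagonal element. -/
def bd (a b : GL I4 F) : G8 F :=
  ⟨fromBlocks (mt a) 0 0 (mt b), fromBlocks (mt a⁻¹) 0 0 (mt b⁻¹),
    by simp [fromBlocks_multiply, ← Units.val_mul, fromBlocks_one],
    by simp [fromBlocks_multiply, ← Units.val_mul, fromBlocks_one]⟩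

/-- The exchange of the blocks. -/
def sw : G8 F := ⟨fromBlocks 0 1 1 0, fromBlocks 0 1 1 0, by simp [fromBlocks_multiply, fromBlocks_one],
  by simp [fromBlocks_multiply, fromBlocks_one]⟩

theorem mt_bd (a b : GL I4 F) : mt (bd a b) = fromBlocks (mt a) 0 0 (mt b) := rfl

theorem mt_sw : mt (sw : G8 F) = fromBlocks 0 1 1 0 := rfl

theorem bd_mul (a b c d : GL I4 F) : bd a b * bd c d = bd (a * c) (b * d) :=
  Units.ext (by show mt (bd a b) * mt (bd c d) = mt (bd (a * c) (b * d) : G8 F); simp [mt_bd, fromBlocks_multiply, mt_mul])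

theorem bd_one : bd (1 : GL I4 F) 1 = 1 := Units.ext (by simp [bd, mt_one, fromBlocks_one])

theorem bd_inv (a b : GL I4 F) : (bd a b)⁻¹ = bd a⁻¹ b⁻¹ :=
  inv_eq_of_mul_eq_one_right (by rw [bd_mul, mul_inv_cancel, mul_inv_cancel, bd_one])

theorem bd_inj {a b c d : GL I4 F} (h : bd a b = bd c d) : a = c ∧ b = d := by
  have h' := fromBlocks_inj.1 (show fromBlocks (mt a) 0 0 (mt b) = fromBlocks (mt c) 0 0 (mt d) from congrArg Units.val h)
  exact ⟨Units.ext h'.1, Units.ext h'.2.2.2⟩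

theorem bd_neg (a b : GL I4 F) : -bd a b = bd (-a) (-b) :=
  Units.ext (by show -mt (bd a b) = mt (bd (-a) (-b)); simp [mt_bd, mt_neg, fromBlocks_neg])

theorem sw_sw : (sw : G8 F) * sw = 1 := Units.ext (by
  show mt (sw : G8 F) * mt (sw : G8 F) = 1
  simp [mt_sw, fromBlocks_multiply, fromBlocks_one])

theorem sw_inv : (sw : G8 F)⁻¹ = sw := inv_eq_of_mul_eq_one_right sw_sw

theorem sw_bd (a b : GL I4 F) : sw * bd a b * sw = bd b a := Units.ext (by
  show mt (sw : G8 F) * mt (bd a b) * mt (sw : G8 F) = mt (bd b a)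
  simp [mt_sw, mt_bd, fromBlocks_multiply])

theorem sw_ne_bd (a b c d : GL I4 F) : sw * bd a b ≠ bd c d := fun h => by
  have h' := fromBlocks_inj.1 (show fromBlocks 0 (mt b) (mt a) 0 = fromBlocks (mt c) 0 0 (mt d) from by
    have := congrArg Units.val h
    simpa [mt_sw, mt_bd, bd, sw, fromBlocks_multiply] using this)
  exact c.ne_zero h'.1.symm

theorem bd_mem {a b : GL I4 F} (ha : a ∈ spGL 2 F) (hb : b ∈ spGL 2 F) : bd a b ∈ sp8 F := by
  rw [mem_sp8, mt_bd, J8, fromBlocks_transpose, fromBlocks_multiply, fromBlocks_multiply]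
  simp [spGL_iff.1 ha, spGL_iff.1 hb]

theorem of_bd_mem {a b : GL I4 F} (h : bd a b ∈ sp8 F) : a ∈ spGL 2 F ∧ b ∈ spGL 2 F := by
  rw [mem_sp8, mt_bd, J8, fromBlocks_transpose, fromBlocks_multiply, fromBlocks_multiply] at h
  simp at h
  exact ⟨spGL_iff.2 h.1, spGL_iff.2 h.2⟩

theorem sw_mem : (sw : G8 F) ∈ sp8 F := by
  rw [mem_sp8, mt_sw, J8, fromBlocks_transpose, fromBlocks_multiply, fromBlocks_multiply]
  simp

/-- The diagonal involution. -/
def r0 : G8 F := bd 1 (-1)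

/-- An element commuting with the diagonal involution is block diagonal. -/
theorem exists_bd (h2 : (2 : F) ≠ 0) {g : G8 F} (h : g * r0 = r0 * g) : ∃ a b, g = bd a b := by
  have blocks : ∀ g : G8 F, g * r0 = r0 * g →
      mt g = fromBlocks (mt g).toBlocks₁₁ 0 0 (mt g).toBlocks₂₂ := by
    intro g h
    have e : mt g * mt (r0 : G8 F) = mt (r0 : G8 F) * mt g := congrArg Units.val h
    rw [← fromBlocks_toBlocks (mt g), r0, mt_bd, fromBlocks_multiply, fromBlocks_multiply] at e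
    simp [mt_one, mt_neg] at e
    have h0 : ∀ M : Matrix I4 I4 F, -M = M → M = 0 := fun M hM => by
      have h2M : (2 : F) • M = 0 := by rw [two_smul]; nth_rw 1 [← hM]; exact neg_add_cancel M
      exact (smul_eq_zero.1 h2M).resolve_left h2
    conv_lhs => rw [← fromBlocks_toBlocks (mt g)]
    rw [h0 _ e.1, h0 _ e.2.symm]
  have hi : g⁻¹ * r0 = r0 * g⁻¹ := (Commute.inv_left h).eq
  have e1 : mt g * mt g⁻¹ = 1 := by rw [← Units.val_mul, mul_inv_cancel]; rfl
  have e2 : mt g⁻¹ * mt g = 1 := by rw [← Units.val_mul, inv_mul_cancel]; rfl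
  rw [blocks g h, blocks g⁻¹ hi, fromBlocks_multiply, ← fromBlocks_one] at e1 e2
  obtain ⟨a1, -, -, b1⟩ := fromBlocks_inj.1 e1
  obtain ⟨a2, -, -, b2⟩ := fromBlocks_inj.1 e2
  simp only [mul_zero, add_zero, zero_mul, zero_add] at a1 b1 a2 b2
  exact ⟨⟨_, _, a1, a2⟩, ⟨_, _, b1, b2⟩, Units.ext (blocks g h)⟩

variable {R : Subgroup (GL I4 F)}

/-- The group is the product of the block diagonal copy with the dihedral group of signs and exchange. -/
def Model (R : Subgroup (GL I4 F)) (Q : Subgroup (G8 F)) : Prop :=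
  ∀ g, g ∈ Q ↔ ∃ o ∈ R, g = bd o o ∨ g = bd o (-o) ∨ g = sw * bd o o ∨ g = sw * bd o (-o)

/-- The normaliser in the isometry group. -/
abbrev N8 (Q : Subgroup (G8 F)) : Subgroup (G8 F) := Cfsg.Geo.subgroupNormalizer Q ⊓ sp8 F

variable (fr : PrimeElusive.SymplType.Frame R) (D : Data R 2) (hle : R ≤ spGL 2 F) {Q : Subgroup (G8 F)}
  (hQ : Model R Q)

/-- The projections of an involution. -/
noncomputable def pp (m : Fin 5) : Matrix I4 I4 F := (2 : F)⁻¹ • (1 + gen fr m)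

/-- The opposite projection. -/
noncomputable def pm (m : Fin 5) : Matrix I4 I4 F := (2 : F)⁻¹ • (1 - gen fr m)

section proj

include fr D
variable (m : Fin 5)

theorem neg_one_mem : (-1 : GL I4 F) ∈ R := by
  obtain ⟨e, he, hev⟩ := exists_neg_one fr D
  rwa [show (-1 : GL I4 F) = e from mt_ext (by rw [mt_neg, mt_one, hev])]

theorem neg_mem_R {o : GL I4 F} (ho : o ∈ R) : -o ∈ R := by
  rw [← neg_one_mul]; exact R.mul_mem (neg_one_mem fr D) ho

theorem pp_pp : pp fr m * pp fr m = pp fr m := by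
  rw [pp, smul_mul_smul_comm]
  simp only [add_mul, mul_add, sub_mul, mul_sub, one_mul, mul_one, gen_sq fr D]
  have h2 := D.two
  match_scalars <;> field_simp <;> ring

theorem pm_pm : pm fr m * pm fr m = pm fr m := by
  rw [pm, smul_mul_smul_comm]
  simp only [add_mul, mul_add, sub_mul, mul_sub, one_mul, mul_one, gen_sq fr D]
  have h2 := D.two
  match_scalars <;> field_simp <;> ring

theorem pp_pm : pp fr m * pm fr m = 0 := by
  rw [pp, pm, smul_mul_smul_comm]
  simp only [add_mul, mul_add, sub_mul, mul_sub, one_mul, mul_one, gen_sq fr D]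
  module

theorem pm_pp : pm fr m * pp fr m = 0 := by
  rw [pp, pm, smul_mul_smul_comm]
  simp only [add_mul, mul_add, sub_mul, mul_sub, one_mul, mul_one, gen_sq fr D]
  module

theorem pp_add_pm : pp fr m + pm fr m = 1 := by
  rw [pp, pm]
  have h2 := D.two
  match_scalars <;> field_simp <;> ring

theorem pp_sub_pm : pp fr m - pm fr m = gen fr m := by
  rw [pp, pm]
  have h2 := D.two
  match_scalars <;> field_simp <;> ring

theorem gen_pp : gen fr m * pp fr m = pp fr m := by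
  rw [pp, mul_smul_comm, mul_add, mul_one, gen_sq fr D, add_comm]

theorem gen_pm : gen fr m * pm fr m = -pm fr m := by
  rw [pm, mul_smul_comm, mul_sub, mul_one, gen_sq fr D, ← smul_neg, neg_sub]

theorem comm_pp {A : Matrix I4 I4 F} (h : A * gen fr m = gen fr m * A) :
    A * pp fr m = pp fr m * A ∧ A * pm fr m = pm fr m * A := by
  constructor <;> simp [pp, pm, mul_add, add_mul, mul_sub, sub_mul, h]

theorem anti_pp {A : Matrix I4 I4 F} (h : A * gen fr m = -(gen fr m * A)) :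
    A * pp fr m = pm fr m * A ∧ A * pm fr m = pp fr m * A := by
  constructor <;> simp [pp, pm, mul_add, add_mul, mul_sub, sub_mul, h, sub_eq_add_neg]

theorem pp_ne_zero : pp fr m ≠ 0 := fun h => by
  have h1 := congrArg Matrix.trace h
  rw [pp, Matrix.trace_smul, Matrix.trace_add, gen_trace fr D, add_zero, D.trace_one, Matrix.trace_zero,
    smul_eq_zero] at h1
  exact h1.elim (inv_ne_zero D.two) D.four_ne

include hle

theorem proj_adj : (pp fr m)ᵀ * J (Fin 2) F = J (Fin 2) F * pp fr m ∧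
    (pm fr m)ᵀ * J (Fin 2) F = J (Fin 2) F * pm fr m := by
  have h : (gen fr m)ᵀ * J (Fin 2) F = J (Fin 2) F * gen fr m := by
    have := clif_SA fr D hle (Pi.single m 1)
    rwa [clif_single fr D] at this
  constructor <;>
    simp [pp, pm, Matrix.transpose_smul, Matrix.transpose_add, Matrix.transpose_sub, add_mul, sub_mul, mul_add,
      mul_sub, h]

end proj

include fr D hle hQ

theorem bd_diag_mem {o : GL I4 F} (ho : o ∈ R) : bd o o ∈ Q ∧ bd o (-o) ∈ Q ∧ sw * bd o o ∈ Q ∧ sw * bd o (-o) ∈ Q :=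
  ⟨(hQ _).2 ⟨o, ho, Or.inl rfl⟩, (hQ _).2 ⟨o, ho, Or.inr (Or.inl rfl)⟩, (hQ _).2 ⟨o, ho, Or.inr (Or.inr (Or.inl rfl))⟩,
    (hQ _).2 ⟨o, ho, Or.inr (Or.inr (Or.inr rfl))⟩⟩

theorem r0_mem : (r0 : G8 F) ∈ Q := (bd_diag_mem fr D hle hQ R.one_mem).2.1

theorem sw_mem_Q : (sw : G8 F) ∈ Q := by
  simpa [bd_one] using (bd_diag_mem fr D hle hQ R.one_mem).2.2.1

theorem Q_le : Q ≤ sp8 F := by
  intro g hg
  obtain ⟨o, ho, h | h | h | h⟩ := (hQ g).1 hg <;> subst h
  exacts [bd_mem (hle ho) (hle ho), bd_mem (hle ho) (hle (neg_mem_R fr D ho)),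
    mul_mem sw_mem (bd_mem (hle ho) (hle ho)), mul_mem sw_mem (bd_mem (hle ho) (hle (neg_mem_R fr D ho)))]

theorem Q_le_N8 : Q ≤ N8 Q := le_inf Subgroup.le_normalizer (Q_le fr D hle hQ)

variable [Finite F]

/-- Criterion for normalising the group. -/
theorem mem_N8_of {n : G8 F} (hn : n ∈ sp8 F) (hd : ∀ o ∈ R, n * bd o o * n⁻¹ ∈ Q) (hr : n * r0 * n⁻¹ ∈ Q)
    (hs : n * sw * n⁻¹ ∈ Q) : n ∈ N8 Q := by
  refine ⟨?_, hn⟩
  have hmul : ∀ a b : G8 F, n * a * n⁻¹ ∈ Q → n * b * n⁻¹ ∈ Q → n * (a * b) * n⁻¹ ∈ Q := fun a b ha hb => by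
    rw [show n * (a * b) * n⁻¹ = n * a * n⁻¹ * (n * b * n⁻¹) by group]; exact Q.mul_mem ha hb
  have key : ∀ g ∈ Q, n * g * n⁻¹ ∈ Q := by
    intro g hg
    obtain ⟨o, ho, h⟩ := (hQ g).1 hg
    have e : bd o (-o) = bd o o * r0 := by rw [r0, bd_mul, mul_one, mul_neg, mul_one]
    rcases h with h | h | h | h <;> subst h
    · exact hd o ho
    · rw [e]; exact hmul _ _ (hd o ho) hr
    · exact hmul _ _ hs (hd o ho)
    · rw [e]; exact hmul _ _ hs (hmul _ _ (hd o ho) hr)
  haveI : Finite (Q : Set (G8 F)) := Subtype.finite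
  exact Subgroup.mem_normalizer_fintype key

theorem bd_one_mem {o : GL I4 F} (ho : o ∈ R) : bd 1 o ∈ N8 Q := by
  refine mem_N8_of fr D hle hQ (bd_mem (one_mem _) (hle ho)) (fun u hu => ?_) ?_ ?_
  · rw [bd_inv, bd_mul, bd_mul, one_mul, inv_one, mul_one]
    rcases D.sgn o ho u hu with h | h
    · rw [h, mul_inv_cancel_right]; exact (bd_diag_mem fr D hle hQ hu).1
    · rw [show o * u = -(u * o) from mt_ext h, neg_mul, mul_inv_cancel_right]; exact (bd_diag_mem fr D hle hQ hu).2.1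
  · rw [r0, bd_inv, bd_mul, bd_mul, one_mul, inv_one, mul_one, mul_neg, mul_one, neg_mul, mul_inv_cancel]
    exact r0_mem fr D hle hQ
  · rw [bd_inv, inv_one, show bd 1 o * sw * bd 1 o⁻¹ = sw * (sw * bd 1 o * sw) * bd 1 o⁻¹ by
      simp only [← mul_assoc, sw_sw, one_mul], sw_bd, mul_assoc, bd_mul, mul_one, one_mul]
    rcases D.sq o ho with h | h
    · rw [show o⁻¹ = o from inv_eq_of_mul_eq_one_right (mt_ext h)]
      exact (bd_diag_mem fr D hle hQ ho).2.2.1
    · rw [show o⁻¹ = -o from inv_eq_of_mul_eq_one_right (mt_ext (by rw [mt_mul, mt_neg, mul_neg, h, neg_neg, mt_one]))]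
      exact (bd_diag_mem fr D hle hQ ho).2.2.2

theorem bd_diag_N8 {g : GL I4 F} (hg : g ∈ nor R) : bd g g ∈ N8 Q := by
  refine mem_N8_of fr D hle hQ (bd_mem hg.2 hg.2) (fun u hu => ?_) ?_ ?_
  · rw [bd_inv, bd_mul, bd_mul]
    exact (bd_diag_mem fr D hle hQ ((Subgroup.mem_normalizer_iff.1 hg.1 u).1 hu)).1
  · rw [r0, bd_inv, bd_mul, bd_mul, mul_one, mul_inv_cancel, mul_neg, mul_one, neg_mul, mul_inv_cancel]
    exact r0_mem fr D hle hQ
  · rw [bd_inv, show bd g g * sw = sw * (sw * bd g g * sw) by simp only [← mul_assoc, sw_sw, one_mul], sw_bd,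
      mul_assoc, bd_mul, mul_inv_cancel, bd_one, mul_one]
    exact sw_mem_Q fr D hle hQ

theorem bd_mem_N8 {a b : GL I4 F} (ha : a ∈ nor R) (hab : a⁻¹ * b ∈ R) : bd a b ∈ N8 Q := by
  have := mul_mem (bd_diag_N8 fr D hle hQ ha) (bd_one_mem fr D hle hQ hab)
  rwa [bd_mul, mul_one, mul_inv_cancel_left] at this

theorem bd_left_mem {o : GL I4 F} (ho : o ∈ R) : bd o 1 ∈ N8 Q :=
  bd_mem_N8 fr D hle hQ ⟨Subgroup.le_normalizer ho, hle ho⟩ (by rw [mul_one]; exact inv_mem ho)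

theorem sw_mem_N8 : (sw : G8 F) ∈ N8 Q := Q_le_N8 fr D hle hQ (sw_mem_Q fr D hle hQ)

/-- The centraliser of the diagonal involution in the normaliser. -/
theorem of_bd_mem_N8 {a b : GL I4 F} (h : bd a b ∈ N8 Q) : a ∈ nor R ∧ b ∈ nor R ∧ a⁻¹ * b ∈ R := by
  obtain ⟨ha, hb⟩ := of_bd_mem h.2
  have conj : ∀ (g : G8 F), g ∈ Q → bd a b * g * (bd a b)⁻¹ ∈ Q := fun g hg =>
    (Subgroup.mem_normalizer_iff.1 h.1 g).1 hg
  have hd : ∀ o ∈ R, a * o * a⁻¹ ∈ R ∧ b * o * b⁻¹ ∈ R := by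
    intro o ho
    have h1 := conj _ (bd_diag_mem fr D hle hQ ho).1
    rw [bd_inv, bd_mul, bd_mul] at h1
    obtain ⟨u, hu, e | e | e | e⟩ := (hQ _).1 h1
    · obtain ⟨e1, e2⟩ := bd_inj e
      exact ⟨e1 ▸ hu, e2 ▸ hu⟩
    · obtain ⟨e1, e2⟩ := bd_inj e
      exact ⟨e1 ▸ hu, e2 ▸ neg_mem_R fr D hu⟩
    · exact absurd e.symm (sw_ne_bd _ _ _ _)
    · exact absurd e.symm (sw_ne_bd _ _ _ _)
  have h1 := conj _ (sw_mem_Q fr D hle hQ)
  rw [bd_inv, show bd a b * sw = sw * bd b a by rw [← sw_bd a b]; simp only [← mul_assoc, sw_sw, one_mul], mul_assoc,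
    bd_mul] at h1
  have hba : b * a⁻¹ ∈ R := by
    obtain ⟨u, hu, e | e | e | e⟩ := (hQ _).1 h1
    · exact absurd e (sw_ne_bd _ _ _ _)
    · exact absurd e (sw_ne_bd _ _ _ _)
    · rw [(bd_inj (mul_left_cancel e)).1]; exact hu
    · rw [(bd_inj (mul_left_cancel e)).1]; exact hu
  haveI : Finite (R : Set (GL I4 F)) := Subtype.finite
  have na : a ∈ nor R := ⟨Subgroup.mem_normalizer_fintype fun o ho => (hd o ho).1, ha⟩
  refine ⟨na, ⟨Subgroup.mem_normalizer_fintype fun o ho => (hd o ho).2, hb⟩, ?_⟩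
  have := (Subgroup.mem_normalizer_iff''.1 na.1 _).1 hba
  rwa [show a⁻¹ * (b * a⁻¹) * a = a⁻¹ * b by group] at this

omit hle hQ in
/-- The exchange of two of the four planes. -/
noncomputable def n13 (m : Fin 5) : G8 F :=
  ⟨fromBlocks (pm fr m) (pp fr m) (pp fr m) (pm fr m), fromBlocks (pm fr m) (pp fr m) (pp fr m) (pm fr m),
    by simp [fromBlocks_multiply, pp_pp fr D, pm_pm fr D, pp_pm fr D, pm_pp fr D, pp_add_pm fr D,
      add_comm (pm fr m), fromBlocks_one],
    by simp [fromBlocks_multiply, pp_pp fr D, pm_pm fr D, pp_pm fr D, pm_pp fr D, pp_add_pm fr D,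
      add_comm (pm fr m), fromBlocks_one]⟩

omit hle hQ in
theorem mt_n13 (m : Fin 5) :
    mt (n13 fr D m) = fromBlocks (pm fr m) (pp fr m) (pp fr m) (pm fr m) := rfl

omit hle hQ in
theorem n13_inv (m : Fin 5) : (n13 fr D m)⁻¹ = n13 fr D m := rfl

theorem n13_conj (m : Fin 5) {o : GL I4 F} (ho : o ∈ R) :
    n13 fr D m * bd o o * n13 fr D m = bd o o ∨
    n13 fr D m * bd o o * n13 fr D m = sw * bd o o := by
  rcases D.sgn o ho (ge fr m) (ge_mem fr m) with h | h
  · left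
    have h' : mt o * gen fr m = gen fr m * mt o := by rw [← mt_ge]; exact congrArg Units.val h
    obtain ⟨e1, e2⟩ := comm_pp fr D m h'
    refine Units.ext ?_
    show mt (n13 fr D m) * mt (bd o o) * mt (n13 fr D m) = mt (bd o o)
    simp only [mt_n13, mt_bd, fromBlocks_multiply, mul_zero, add_zero, zero_add, mul_assoc, e1, e2]
    simp only [← mul_assoc, zero_add, add_zero,
      pp_pp fr D, pm_pm fr D, pp_pm fr D, pm_pp fr D, zero_mul, ← add_mul, add_comm (pm fr m), pp_add_pm fr D, one_mul]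
  · right
    have h' : mt o * gen fr m = -(gen fr m * mt o) := by rw [← mt_ge]; exact h
    obtain ⟨e1, e2⟩ := anti_pp fr D m h'
    refine Units.ext ?_
    show mt (n13 fr D m) * mt (bd o o) * mt (n13 fr D m) = mt (sw : G8 F) * mt (bd o o)
    simp only [mt_n13, mt_sw, mt_bd, fromBlocks_multiply, mul_zero, add_zero, zero_add, one_mul, zero_mul, mul_assoc,
      e1, e2]
    simp only [← mul_assoc, pp_pp fr D, pm_pm fr D, pp_pm fr D, pm_pp fr D, zero_mul, zero_add, add_zero, ← add_mul,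
      add_comm (pm fr m), pp_add_pm fr D, one_mul]

theorem n13_r0 (m : Fin 5) :
    n13 fr D m * r0 * n13 fr D m = bd (-ge fr m) (ge fr m) := by
  refine Units.ext ?_
  show mt (n13 fr D m) * mt (bd 1 (-1) : G8 F) * mt (n13 fr D m) = mt (bd (-ge fr m) (ge fr m))
  simp [mt_n13, mt_bd, mt_neg, mt_one, mt_ge, fromBlocks_multiply, pp_pp fr D, pm_pm fr D, pp_pm fr D, pm_pp fr D,
    ← pp_sub_pm fr D m]
  constructor <;> abel

theorem n13_mem (m : Fin 5) : n13 fr D m ∈ N8 Q := by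
  obtain ⟨e1, e2⟩ := proj_adj fr D hle m
  refine mem_N8_of fr D hle hQ ?_ (fun o ho => ?_) ?_ ?_
  · rw [mem_sp8, mt_n13, J8, fromBlocks_transpose, fromBlocks_multiply, fromBlocks_multiply]
    simp only [e1, e2, mul_zero, add_zero, zero_add, mul_assoc, pp_pp fr D, pm_pm fr D, pp_pm fr D, pm_pp fr D,
      mul_zero, ← mul_add, add_comm (pm fr m), pp_add_pm fr D, mul_one]
  · rw [n13_inv]
    rcases n13_conj fr D hle hQ m ho with e | e <;> rw [e]
    exacts [(bd_diag_mem fr D hle hQ ho).1, (bd_diag_mem fr D hle hQ ho).2.2.1]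
  · rw [n13_inv, n13_r0 fr D hle hQ]
    have := (bd_diag_mem fr D hle hQ (neg_mem_R fr D (ge_mem fr m))).2.1
    rwa [neg_neg] at this
  · rw [n13_inv]
    convert sw_mem_Q fr D hle hQ using 1
    refine Units.ext ?_
    show mt (n13 fr D m) * mt (sw : G8 F) * mt (n13 fr D m) = mt (sw : G8 F)
    simp [mt_n13, mt_sw, fromBlocks_multiply, pp_pp fr D, pm_pm fr D, pp_pm fr D, pm_pp fr D, pp_add_pm fr D,
      add_comm (pm fr m)]

variable (p : ℕ) [Fact p.Prime] [CharP F p] (hcard : Nat.card F = p)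
include hcard

/-- The centraliser of the diagonal involution in an overgroup. -/
theorem control {H : Subgroup (G8 F)} (hN : N8 Q ≤ H) (hH : H ≤ sp8 F) :
    (∀ g ∈ H, g * r0 = r0 * g → g ∈ N8 Q) ∨ ∀ a ∈ spGL 2 F, ∀ b ∈ spGL 2 F, bd a b ∈ H := by
  classical
  haveI := Fintype.ofFinite F
  let P : Subgroup (GL I4 F) :=
    { carrier := {a | a ∈ spGL 2 F ∧ ∃ b, bd a b ∈ H}
      one_mem' := ⟨one_mem _, 1, by rw [bd_one]; exact one_mem _⟩
      mul_mem' := fun ⟨ha, u, hu⟩ ⟨hb, v, hv⟩ => ⟨mul_mem ha hb, u * v, by rw [← bd_mul]; exact mul_mem hu hv⟩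
      inv_mem' := fun ⟨ha, u, hu⟩ => ⟨inv_mem ha, u⁻¹, by rw [← bd_inv]; exact inv_mem hu⟩ }
  have hNP : nor R ≤ P := fun a ha => ⟨ha.2, a, hN (bd_diag_N8 fr D hle hQ ha)⟩
  have hswap : ∀ a b, bd a b ∈ H → bd b a ∈ H := fun a b h => by
    rw [← sw_bd]; exact mul_mem (mul_mem (hN (sw_mem_N8 fr D hle hQ)) h) (hN (sw_mem_N8 fr D hle hQ))
  rcases (maximal_normalizer fr D hle p hcard).2 P hNP (fun a ha => ha.1) with hP | hP
  swap
  · right
    let K : Subgroup (GL I4 F) :=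
      { carrier := {a | bd a 1 ∈ H}
        one_mem' := by show bd 1 1 ∈ H; rw [bd_one]; exact one_mem _
        mul_mem' := fun {a b} (ha : bd a 1 ∈ H) (hb : bd b 1 ∈ H) => show bd (a * b) 1 ∈ H by
          have := mul_mem ha hb; rwa [bd_mul, mul_one] at this
        inv_mem' := fun {a} (ha : bd a 1 ∈ H) => show bd a⁻¹ 1 ∈ H by
          have := inv_mem ha; rwa [bd_inv, inv_one] at this }
    have hKconj : ∀ s ∈ spGL 2 F, ∀ a ∈ K, s * a * s⁻¹ ∈ K := by
      intro s hs a (ha : bd a 1 ∈ H)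
      obtain ⟨-, u, hu⟩ := hP.ge hs
      show bd (s * a * s⁻¹) 1 ∈ H
      have := mul_mem (mul_mem hu ha) (inv_mem hu)
      rwa [bd_inv, bd_mul, bd_mul, mul_one, mul_inv_cancel] at this
    let N : Subgroup (symplecticGroup (Fin 2) F) := (K.subgroupOf (spGL 2 F)).comap (CfsgLib.Sp.spEquiv 2 F).toMonoidHom
    haveI : N.Normal := by
      refine ⟨fun a ha g => ?_⟩
      simp only [N, Subgroup.mem_comap, Subgroup.mem_subgroupOf, MulEquiv.coe_toMonoidHom] at ha ⊢
      rw [map_mul, map_mul, map_inv, Subgroup.coe_mul, Subgroup.coe_mul, Subgroup.coe_inv]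
      exact hKconj _ (CfsgLib.Sp.spEquiv 2 F g).2 _ ha
    have h3 : 3 ≤ p := by
      have := (Fact.out : p.Prime).two_le
      have hp2 : p ≠ 2 := by
        rintro rfl
        exact D.two (by exact_mod_cast CharP.cast_eq_zero F 2)
      omega
    have hperf : commutator (symplecticGroup (Fin 2) F) = ⊤ :=
      CfsgLib.Sp.commutator_eq_top_of_card (Nat.card_eq_fintype_card.symm.trans hcard) (by omega)
    have hgm : ∀ i, ge fr i ∈ K := fun i => hN (bd_left_mem fr D hle hQ (ge_mem fr i))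
    rcases CfsgLib.Sp.normal_le_center_or_eq_top hperf N with hN' | hN'
    · exfalso
      set e : Fin 5 → spGL 2 F := fun i => ⟨ge fr i, hle (ge_mem fr i)⟩
      have hm : (CfsgLib.Sp.spEquiv 2 F).symm (e 0) ∈ N := by
        simp only [N, Subgroup.mem_comap, MulEquiv.coe_toMonoidHom, MulEquiv.apply_symm_apply, Subgroup.mem_subgroupOf]
        exact hgm 0
      have hcom := congrArg (CfsgLib.Sp.spEquiv 2 F)
        (Subgroup.mem_center_iff.1 (hN' hm) ((CfsgLib.Sp.spEquiv 2 F).symm (e 1)))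
      rw [map_mul, map_mul, MulEquiv.apply_symm_apply, MulEquiv.apply_symm_apply] at hcom
      refine Anti.not_commute D.two (g := ge fr 1) (h := ge fr 0) ?_ (congrArg Subtype.val hcom)
      show mt (ge fr 1) * mt (ge fr 0) = -(mt (ge fr 0) * mt (ge fr 1))
      rw [mt_ge, mt_ge]; exact gen_anti fr D (by decide)
    · have hK : spGL 2 F ≤ K := fun a ha => by
        have := hN' ▸ Subgroup.mem_top ((CfsgLib.Sp.spEquiv 2 F).symm ⟨a, ha⟩)
        simpa [N, Subgroup.mem_subgroupOf] using this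
      intro a ha b hb
      have h1 : bd a 1 ∈ H := hK ha
      have h2 : bd b 1 ∈ H := hK hb
      have := mul_mem h1 (hswap _ _ h2)
      rwa [bd_mul, mul_one, one_mul] at this
  left
  intro g hg hgr
  obtain ⟨a, b, rfl⟩ := exists_bd D.two hgr
  obtain ⟨hsa, hsb⟩ := of_bd_mem (hH hg)
  have ha : a ∈ nor R := hP.le ⟨hsa, b, hg⟩
  have hb : b ∈ nor R := hP.le ⟨hsb, a, hswap _ _ hg⟩
  let B : Subgroup (GL I4 F) :=
    { carrier := {c | c ∈ nor R ∧ bd 1 c ∈ H}
      one_mem' := ⟨one_mem _, by rw [bd_one]; exact one_mem _⟩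
      mul_mem' := fun {u v} ⟨hu, hu'⟩ ⟨hv, hv'⟩ => ⟨mul_mem hu hv, by
        have := mul_mem hu' hv'; rwa [bd_mul, one_mul] at this⟩
      inv_mem' := fun {u} ⟨hu, hu'⟩ => ⟨inv_mem hu, by
        have := inv_mem hu'; rwa [bd_inv, inv_one] at this⟩ }
  refine bd_mem_N8 fr D hle hQ ha ?_
  by_contra hR
  have hbB : a⁻¹ * b ∈ B := ⟨mul_mem (inv_mem ha) hb, by
    have := mul_mem (inv_mem (hN (bd_diag_N8 fr D hle hQ ha))) hg
    rwa [bd_inv, bd_mul, inv_mul_cancel] at this⟩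
  obtain ⟨c, ⟨hc, hc1⟩, π, hπ, m, j, hjm, hm, hj, hj2, hcm⟩ := exists_three fr D hle (B := B) (fun x hx => hx.1)
    (fun n hn u hu => ⟨mul_mem (mul_mem hn hu.1) (inv_mem hn), by
      have := mul_mem (mul_mem (hN (bd_diag_N8 fr D hle hQ hn)) hu.2) (inv_mem (hN (bd_diag_N8 fr D hle hQ hn)))
      rwa [bd_inv, bd_mul, bd_mul, mul_one, mul_inv_cancel] at this⟩) hbB hR
  obtain ⟨cp, cm⟩ := comm_pp fr D m hcm
  set n := n13 fr D m with hn
  have hconj : n * bd 1 c * n ∈ H := mul_mem (mul_mem (hN (n13_mem fr D hle hQ m)) hc1) (hN (n13_mem fr D hle hQ m))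
  have hmt : mt (n * bd 1 c * n) = fromBlocks (pm fr m + mt c * pp fr m) 0 0 (pp fr m + mt c * pm fr m) := by
    show mt n * mt (bd 1 c) * mt n = _
    simp [hn, mt_n13, mt_bd, mt_one, fromBlocks_multiply, mul_assoc, cp, cm]
    simp [← mul_assoc, pp_pp fr D, pm_pm fr D, pp_pm fr D, pm_pp fr D, add_comm]
  obtain ⟨a', b', hab⟩ : ∃ a' b', n * bd 1 c * n = bd a' b' := by
    refine exists_bd D.two (Units.ext ?_)
    show mt (n * bd 1 c * n) * mt (r0 : G8 F) = mt (r0 : G8 F) * mt (n * bd 1 c * n)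
    simp [hmt, r0, mt_bd, mt_one, mt_neg, fromBlocks_multiply]
  rw [hab] at hconj hmt
  rw [mt_bd] at hmt
  have ha'v : mt a' = pm fr m + mt c * pp fr m := (fromBlocks_inj.1 hmt).1
  have ha' : a' ∈ nor R := hP.le ⟨(of_bd_mem (hH hconj)).1, b', hconj⟩
  obtain ⟨π', hπ'⟩ := exists_act fr D hle ha'
  obtain ⟨ε, hε, he⟩ := hπ' j
  have hjm' : gen fr j * gen fr m = -(gen fr m * gen fr j) := gen_anti fr D hjm
  obtain ⟨jp, jm⟩ := anti_pp fr D m hjm'
  -- the element acts on the positive side as an element of the group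
  have h1 : gen fr j * pp fr m = ε • (gen fr (π' j) * (mt c * pp fr m)) := by
    have e := congrArg (fun M => M * pp fr m) he
    simp only [smul_mul_assoc, mul_assoc, ha'v, add_mul, pp_pp fr D, pm_pp fr D, zero_add] at e
    rw [jp, ← mul_assoc (pm fr m), pm_pm fr D, ← mul_assoc (pp fr m), pp_pm fr D, zero_mul, mul_zero, add_zero,
      ← jp] at e
    exact e
  have h2 : mt c * pp fr m = mt ((if ε = 1 then 1 else -1 : GL I4 F) * (ge fr (π' j) * ge fr j)) * pp fr m := by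
    have e : mt c * pp fr m = ε • (gen fr (π' j) * (gen fr j * pp fr m)) := by
      rw [h1, mul_smul_comm, smul_smul, ← mul_assoc, gen_sq fr D, one_mul,
        show ε * ε = 1 by rcases hε with rfl | rfl <;> simp, one_smul]
    have hne : (-1 : F) ≠ 1 := fun h => D.two (by linear_combination -h)
    rw [e, mt_mul, mt_mul, mt_ge, mt_ge]
    rcases hε with rfl | rfl
    · rw [if_pos rfl, mt_one, one_mul, one_smul, mul_assoc]
    · rw [if_neg hne, mt_neg, mt_one, neg_one_mul, neg_one_smul, neg_mul, mul_assoc]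
  set o : GL I4 F := (if ε = 1 then 1 else -1 : GL I4 F) * (ge fr (π' j) * ge fr j)
  have ho : o ∈ R := R.mul_mem (by split_ifs; exacts [R.one_mem, neg_one_mem fr D])
    (R.mul_mem (ge_mem fr _) (ge_mem fr _))
  have hπm : π j ≠ m := fun h => hjm (π.injective (h.trans hm.symm))
  have hπm2 : π (π j) ≠ m := fun h => hπm (π.injective (h.trans hm.symm))
  obtain ⟨δ₁, hδ₁, hd1⟩ := hπ j
  obtain ⟨δ₂, hδ₂, hd2⟩ := hπ (π j)
  set k := π j with hk
  set l := π k with hl
  have hcX : mt c * (gen fr j * gen fr k) = (δ₁ * δ₂) • (gen fr k * gen fr l * mt c) := by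
    rw [← mul_assoc, hd1, smul_mul_assoc, mul_assoc, hd2, mul_smul_comm, smul_smul, mul_assoc]
  have hXm : gen fr j * gen fr k * gen fr m = gen fr m * (gen fr j * gen fr k) := by
    rw [mul_assoc, gen_anti fr D hπm, mul_neg, ← mul_assoc, hjm', neg_mul, neg_neg, mul_assoc]
  obtain ⟨Xp, -⟩ := comm_pp fr D m hXm
  obtain ⟨σ, hσ, hoX⟩ : ∃ σ : F, (σ = 1 ∨ σ = -1) ∧
      mt o * (gen fr j * gen fr k) = σ • (gen fr j * gen fr k * mt o) := by
    rw [← mt_ge, ← mt_ge, ← mt_mul]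
    rcases D.sgn o ho (ge fr j * ge fr k) (R.mul_mem (ge_mem fr _) (ge_mem fr _)) with h | h
    · exact ⟨1, Or.inl rfl, by rw [one_smul]; exact congrArg Units.val h⟩
    · exact ⟨-1, Or.inr rfl, by rw [neg_one_smul]; exact h⟩
  have h3 : (δ₁ * δ₂) • (gen fr k * gen fr l * (pp fr m * mt c)) =
      σ • (gen fr j * gen fr k * (pp fr m * mt c)) := by
    rw [← cp]
    calc (δ₁ * δ₂) • (gen fr k * gen fr l * (mt c * pp fr m)) = mt c * (gen fr j * gen fr k) * pp fr m := by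
          rw [hcX]; simp only [smul_mul_assoc, mul_assoc]
      _ = mt c * pp fr m * (gen fr j * gen fr k) := by rw [mul_assoc, Xp, ← mul_assoc]
      _ = mt o * (gen fr j * gen fr k) * pp fr m := by rw [h2, mul_assoc, ← Xp, ← mul_assoc]
      _ = _ := by rw [hoX, smul_mul_assoc, mul_assoc, ← h2]
  have h4 : (δ₁ * δ₂) • (gen fr k * gen fr l * pp fr m) = σ • (gen fr j * gen fr k * pp fr m) := by
    have := congrArg (fun M => M * mt c⁻¹) h3
    simpa only [smul_mul_assoc, mul_assoc, ← mt_mul, mul_inv_cancel, mt_one, mul_one] using this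
  -- two involutions would agree on the positive side
  have hkj : k ≠ j := hj
  have hlj : l ≠ j := hj2
  have h5 : gen fr j * gen fr l * pp fr m = -((δ₁ * δ₂ * σ) • pp fr m) := by
    have h := congrArg (fun M => gen fr j * (gen fr k * M)) h4
    simp only [mul_smul_comm, ← mul_assoc] at h
    rw [mul_assoc (gen fr j) (gen fr k) (gen fr k), gen_sq fr D, mul_one,
      show gen fr j * gen fr k * gen fr j = -gen fr k by
        rw [mul_assoc, gen_anti fr D hkj, mul_neg, ← mul_assoc, gen_sq fr D, one_mul],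
      neg_mul, gen_sq fr D, neg_one_mul] at h
    have hdd : δ₁ * δ₂ * (δ₁ * δ₂) = 1 := by rcases hδ₁ with h | h <;> rcases hδ₂ with h' | h' <;> simp [h, h']
    have := congrArg (fun M => (δ₁ * δ₂) • M) h
    rw [smul_smul, hdd, one_smul, smul_smul, smul_neg] at this
    exact this
  have hlm : l ≠ m := hπm2
  have h6 : gen fr j * gen fr l * (gen fr j * gen fr l * pp fr m) = -pp fr m := by
    rw [← mul_assoc, mul_assoc (gen fr j) (gen fr l), ← mul_assoc (gen fr l), gen_anti fr D hlj, neg_mul,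
      mul_assoc (gen fr j) (gen fr l) (gen fr l), gen_sq fr D, mul_one, mul_neg, gen_sq fr D, neg_one_mul]
  rw [h5, mul_neg, mul_smul_comm, h5, smul_neg, neg_neg, smul_smul] at h6
  have hs : δ₁ * δ₂ * σ * (δ₁ * δ₂ * σ) = 1 := by
    rcases hδ₁ with h | h <;> rcases hδ₂ with h' | h' <;> rcases hσ with h'' | h'' <;> simp [h, h', h'']
  rw [hs, one_smul] at h6
  refine pp_ne_zero fr D m ((smul_eq_zero.1 ?_).resolve_left D.two)
  rw [two_smul]
  nth_rw 2 [h6]
  exact add_neg_cancel _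

end CfsgLib.ExtraSpEight
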