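import Cfsg.Agent.Lib.ExtraSpEight.Planes
import Cfsg.Agent.Lib.PrimeElusive.SymplGroups
import Cfsg.Agent.Lib.Sp.Decomp
import Cfsg.Agent.Lib.GeomClasses.Symp

/-!
Coordinates in which an extraspecial subgroup of order 128 of minus type of `Sp₈(p)` is the block model, and
the maximality of its normaliser.
-/

set_option autoImplicit false
set_option linter.unusedSectionVars false
set_option linter.unusedSimpArgs false

namespace CfsgLib.ExtraSpEight

open Matrix Cfsg CfsgLib.Sp4Odd CfsgLib.PrimeElusive.SymplType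
open CfsgLib.GeomClasses (formTv)
open CfsgLib.GeomClasses.Symp (centres)

open scoped MatrixGroups commutatorElement

variable {F : Type*} [Field F]

/-- The index set of the eight-dimensional space. -/
abbrev K8 := Fin 4 ⊕ Fin 4

/-- Signs and squares in a group of symplectic type and exponent four. -/
theorem signs {ι : Type} [Fintype ι] [DecidableEq ι] [Nonempty ι] [Finite F] {R : Subgroup (GL ι F)}
    (hs : Cfsg.Geo.IsSymplecticTypeGroup 2 R) (hi : Cfsg.Geo.ActsAbsolutelyIrreducibly (Cfsg.Geo.matrixSet R)) :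
    (∀ a ∈ R, ∀ b ∈ R, a * b = b * a ∨ Anti a b) ∧ (∀ a ∈ R, mt a * mt a = 1 ∨ mt a * mt a = -1) := by
  have hexp : ∀ q : R, q ^ 4 = 1 := fun q => by
    have := Monoid.pow_exponent_eq_one q
    rw [hs.exponent_eq] at this
    exact this
  have hprops := CfsgLib.SymplecticFour.commutator_props R hs.pGroup hs.cyclic_of_characteristic hexp
  have hsq1 : ∀ c : F, c ^ 2 = 1 → c = 1 ∨ c = -1 := fun c h => sq_eq_one_iff.1 h
  have entry : ∀ (c d : F), c • (1 : Matrix ι ι F) = d • 1 → c = d := fun c d h => by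
    have i := Classical.arbitrary ι
    simpa using congrFun (congrFun h i) i
  refine ⟨fun a ha b hb => ?_, fun a ha => ?_⟩
  · obtain ⟨h1, h1'⟩ := hprops ⟨a, ha⟩ ⟨b, hb⟩
    obtain ⟨c, hcv⟩ := (mem_center_iff hi _).1 h1
    have e : mt a * mt b = c • (mt b * mt a) := by
      have e1 : (a * b : GL ι F) = ((⁅(⟨a, ha⟩ : R), ⟨b, hb⟩⁆ : R) : GL ι F) * (b * a) := by
        simp only [commutatorElement_def, Subgroup.coe_mul, Subgroup.coe_inv]; group
      have := congrArg Units.val e1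
      rw [Units.val_mul, Units.val_mul, Units.val_mul] at this
      rw [show mt a * mt b = _ from this, show ((⁅(⟨a, ha⟩ : R), ⟨b, hb⟩⁆ : R) : GL ι F).val = c • 1 from hcv,
        smul_mul_assoc, one_mul]
    have hc2 : c ^ 2 = 1 := by
      refine entry _ _ ?_
      have := congrArg (fun u : R => mt (u : GL ι F)) h1'
      simp only [Subgroup.coe_pow, PrimeElusive.SymplType.mt, Units.val_pow_eq_pow_val] at this
      rw [show ((⁅(⟨a, ha⟩ : R), ⟨b, hb⟩⁆ : R) : GL ι F).val = c • 1 from hcv, smul_pow, one_pow] at this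
      rw [one_smul]; simpa using this
    rcases hsq1 c hc2 with rfl | rfl
    · left; exact Units.ext (by rw [Units.val_mul, Units.val_mul]; simpa using e)
    · right; show mt a * mt b = _; rw [e, neg_one_smul]
  · have hcen : (⟨a, ha⟩ : R) ^ 2 ∈ Subgroup.center R := by
      rw [Subgroup.mem_center_iff]
      intro x
      refine (commutatorElement_eq_one_iff_mul_comm.mp ?_).symm
      rw [CfsgLib.SymplecticFour.commutator_sq_left (hprops _ x).1, (hprops _ x).2]
    obtain ⟨c, hcv⟩ := (mem_center_iff hi _).1 hcen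
    have e : mt a * mt a = c • 1 := by rw [← hcv]; simp [PrimeElusive.SymplType.mt, pow_two]
    have hc2 : c ^ 2 = 1 := by
      refine entry _ _ ?_
      have := congrArg (fun u : R => mt (u : GL ι F)) (hexp ⟨a, ha⟩)
      simp only [Subgroup.coe_pow, PrimeElusive.SymplType.mt, Units.val_pow_eq_pow_val] at this
      rw [show 4 = 2 * 2 from rfl, pow_mul, pow_two, pow_two, show (a : Matrix ι ι F) * a = _ from e] at this
      rw [one_smul, pow_two]
      simpa [smul_smul] using this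
    rcases hsq1 c hc2 with rfl | rfl
    · left; rw [e, one_smul]
    · right; rw [e, neg_one_smul]

/-- Two anticommuting non-central involutions. -/
theorem exists_invols {ι : Type} [Fintype ι] [DecidableEq ι] [Nonempty ι] [Finite F] {R : Subgroup (GL ι F)}
    (h2 : (2 : F) ≠ 0) (hi : Cfsg.Geo.ActsAbsolutelyIrreducibly (Cfsg.Geo.matrixSet R))
    (sgn : ∀ a ∈ R, ∀ b ∈ R, a * b = b * a ∨ Anti a b) (sq : ∀ a ∈ R, mt a * mt a = 1 ∨ mt a * mt a = -1)
    (hz : Nat.card (Subgroup.center R) = 2) (hc : 8 < Nat.card R) :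
    ∃ r ∈ R, ∃ w ∈ R, r * r = 1 ∧ w * w = 1 ∧ w * r = -(r * w) := by
  classical
  have exists_anti : ∀ g ∈ R, ¬ Sc g → ∃ h ∈ R, Anti g h := by
    intro g hg hns
    by_contra hno
    push Not at hno
    refine hns (hi.2 _ ?_)
    rintro _ ⟨h, hh, rfl⟩
    exact congrArg Units.val ((sgn g hg h hh).resolve_right (hno h hh))
  obtain ⟨a, ha, hans⟩ : ∃ a ∈ R, ¬ Sc a := by
    by_contra hno
    push Not at hno
    have htop : Subgroup.center R = ⊤ := eq_top_iff.2 fun g _ => (mem_center_iff hi g).2 (hno g g.2)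
    rw [htop, Subgroup.card_top] at hz
    omega
  obtain ⟨b, hb, hab⟩ := exists_anti a ha hans
  obtain ⟨r, hr, hrr, hrns⟩ : ∃ r ∈ R, mt r * mt r = 1 ∧ ¬ Sc r := by
    rcases sq a ha with ea | ea
    · exact ⟨a, ha, ea, hans⟩
    rcases sq b hb with eb | eb
    · exact ⟨b, hb, eb, hab.symm.not_sc h2⟩
    have hadj : ∀ v ∈ R, ∃ (ε δ : Bool), let w := v * (if ε then b else 1) * (if δ then a else 1)
        w * a = a * w ∧ w * b = b * w := by
      intro v hv
      rcases sgn v hv a ha with h1 | h1 <;> rcases sgn v hv b hb with h2 | h2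
      · exact ⟨false, false, by simpa using h1, by simpa using h2⟩
      · refine ⟨false, true, ?_, ?_⟩
        · simpa using comm_mul' h1 (rfl : a * a = a * a)
        · simpa using comm_mul h2 hab
      · refine ⟨true, false, ?_, ?_⟩
        · simpa using comm_mul h1 hab.symm
        · simpa using comm_mul' h2 (rfl : b * b = b * b)
      · refine ⟨true, true, ?_, ?_⟩
        · simpa using comm_mul' (comm_mul h1 hab.symm) (rfl : a * a = a * a)
        · simpa using comm_mul (anti_mul h2 (rfl : b * b = b * b)) hab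
    obtain ⟨x, hx, hxns, hxa, hxb⟩ : ∃ x ∈ R, ¬ Sc x ∧ x * a = a * x ∧ x * b = b * x := by
      by_contra hno
      push Not at hno
      let T : Subgroup.center R × Bool × Bool → R := fun p =>
        (p.1 : R) * (if p.2.2 then (⟨a, ha⟩ : R)⁻¹ else 1) * (if p.2.1 then (⟨b, hb⟩ : R)⁻¹ else 1)
      have hT : Function.Surjective T := by
        intro v
        obtain ⟨ε, δ, h1, h2⟩ := hadj v v.2
        set w : GL ι F := (v : GL ι F) * (if ε then b else 1) * (if δ then a else 1) with hw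
        have hwR : w ∈ R :=
          R.mul_mem (R.mul_mem v.2 (by split_ifs; exacts [hb, R.one_mem])) (by split_ifs; exacts [ha, R.one_mem])
        have hsc : Sc w := by
          by_contra hns
          exact hno w hwR hns h1 h2
        refine ⟨(⟨⟨w, hwR⟩, (mem_center_iff hi _).2 hsc⟩, ε, δ), Subtype.ext ?_⟩
        simp only [T, hw]
        cases ε <;> cases δ <;> simp
      have h := Nat.card_le_card_of_surjective T hT
      rw [Nat.card_prod, Nat.card_prod, hz, Nat.card_eq_fintype_card (α := Bool), Fintype.card_bool] at h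
      omega
    rcases sq x hx with ex | ex
    · exact ⟨x, hx, ex, hxns⟩
    · refine ⟨a * x, R.mul_mem ha hx, ?_, (anti_mul hab hxb).not_sc h2⟩
      show mt a * mt x * (mt a * mt x) = 1
      rw [mul_assoc, ← mul_assoc (mt x), cm hxa, mul_assoc (mt a), ex, ← mul_assoc, ea]
      simp
  obtain ⟨w, hw, hrw⟩ := exists_anti r hr hrns
  rcases sq w hw with ew | ew
  · exact ⟨r, hr, w, hw, Units.ext hrr, Units.ext ew, Units.ext hrw.symm⟩
  · refine ⟨r, hr, w * r, R.mul_mem hw hr, Units.ext hrr, Units.ext ?_, Units.ext ?_⟩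
    · show mt w * mt r * (mt w * mt r) = 1
      rw [mul_assoc, ← mul_assoc (mt r), show mt r * mt w = -(mt w * mt r) from hrw, neg_mul, mul_assoc (mt w), hrr,
        mul_one, mul_neg, ew, neg_neg]
    · show mt w * mt r * mt r = -(mt r * (mt w * mt r))
      rw [← mul_assoc (mt r), show mt r * mt w = -(mt w * mt r) from hrw, neg_mul, neg_neg]

variable (φ : (I4 ⊕ I4 → F) ≃ₗ[F] (K8 → F))

/-- The isomorphism of matrix groups given by coordinates. -/
noncomputable def psi : G8 F ≃* GL K8 F :=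
  Matrix.GeneralLinearGroup.toLin.trans
    ((LinearMap.GeneralLinearGroup.congrLinearEquiv φ).trans Matrix.GeneralLinearGroup.toLin.symm)

theorem psi_apply (g : G8 F) (z : I4 ⊕ I4 → F) : mt (psi φ g) *ᵥ φ z = φ (mt g *ᵥ z) := by
  have h : mt (psi φ g) =
      LinearMap.toMatrix' ((φ.toLinearMap ∘ₗ Matrix.toLin' (mt g)) ∘ₗ φ.symm.toLinearMap) := rfl
  rw [h, ← Matrix.toLin'_apply, Matrix.toLin'_toMatrix']
  simp

theorem psi_neg (g : G8 F) : psi φ (-g) = -psi φ g := Units.ext (Matrix.ext_of_mulVec_single fun i => by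
  obtain ⟨z, hz⟩ := φ.surjective (Pi.single i 1)
  rw [← hz]
  show mt (psi φ (-g)) *ᵥ φ z = (-mt (psi φ g)) *ᵥ φ z
  rw [psi_apply, Matrix.neg_mulVec, psi_apply, ← map_neg]
  congr 1
  exact Matrix.neg_mulVec z _)

variable (hφ : ∀ z z', sympForm 4 F (φ z) (φ z') = z ⬝ᵥ J8 F *ᵥ z')
include hφ

theorem psi_mem {g : G8 F} : psi φ g ∈ spGL 4 F ↔ g ∈ sp8 F := by
  rw [CfsgLib.GeomClasses.Symp.mem_spGL]
  constructor
  · intro h
    rw [mem_sp8]
    refine Matrix.ext fun i j => ?_
    have := h (φ (Pi.single i 1)) (φ (Pi.single j 1))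
    rw [psi_apply, psi_apply, hφ, hφ] at this
    rw [Matrix.mulVec_mulVec, ← Matrix.vecMul_transpose, ← Matrix.dotProduct_mulVec, Matrix.mulVec_mulVec,
      ← mul_assoc] at this
    simpa using this
  · intro h u v
    obtain ⟨z, rfl⟩ := φ.surjective u
    obtain ⟨z', rfl⟩ := φ.surjective v
    show sympForm 4 F (mt (psi φ g) *ᵥ φ z) (mt (psi φ g) *ᵥ φ z') = _
    rw [psi_apply, psi_apply, hφ, hφ, sp8_dot h]

theorem centre_block {H : Subgroup (GL K8 F)} (hH : ∀ a ∈ spGL 2 F, ∀ b ∈ spGL 2 F, psi φ (bd a b) ∈ H)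
    (x : I4 → F) : φ (Sum.elim x 0) ∈ centres (sympForm 4 F) H ∧ φ (Sum.elim 0 x) ∈ centres (sympForm 4 F) H := by
  have key : ∀ (v : I4 ⊕ I4 → F) (a b : GL I4 F), a ∈ spGL 2 F → b ∈ spGL 2 F →
      ∀ c, (∀ z, mt (bd a b) *ᵥ z = z + (c * (z ⬝ᵥ J8 F *ᵥ v)) • v) → formTv (sympForm 4 F) (φ v) c ∈ H := by
    intro v a b ha hb c h
    convert hH a ha b hb using 1
    refine Units.ext (Matrix.ext_of_mulVec_single fun i => ?_)
    obtain ⟨z, hz⟩ := φ.surjective (Pi.single i 1)
    rw [← hz]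
    show _ = mt (psi φ (bd a b)) *ᵥ φ z
    rw [psi_apply, h, map_add, map_smul,
      CfsgLib.GeomClasses.Symp.formTv_mulVec (CfsgLib.GeomClasses.Symp.isSymplecticForm_sympForm 4), hφ]
  have tv : ∀ c, formTv (sympForm 2 F) x c ∈ spGL 2 F := fun c =>
    CfsgLib.GeomClasses.Symp.formTv_mem_spGL 2 x c
  have htv : ∀ c y, mt (formTv (sympForm 2 F) x c) *ᵥ y = y + (c * (y ⬝ᵥ J (Fin 2) F *ᵥ x)) • x :=
    fun c y => CfsgLib.GeomClasses.Symp.formTv_mulVec (CfsgLib.GeomClasses.Symp.isSymplecticForm_sympForm 2) x c y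
  constructor <;> intro c
  · refine key _ _ 1 (tv c) (one_mem _) c fun z => ?_
    obtain ⟨p, q, rfl⟩ : ∃ p q, z = Sum.elim p q := ⟨_, _, (Sum.elim_comp_inl_inr z).symm⟩
    rw [mt_bd, J8, Matrix.fromBlocks_mulVec, Matrix.fromBlocks_mulVec, mt_one]
    simp only [Sum.elim_comp_inl, Sum.elim_comp_inr, Matrix.zero_mulVec, Matrix.mulVec_zero, add_zero, zero_add,
      Matrix.one_mulVec, sumElim_dotProduct_sumElim, dotProduct_zero, htv]
    ext (k | k) <;> simp
  · refine key _ 1 _ (one_mem _) (tv c) c fun z => ?_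
    obtain ⟨p, q, rfl⟩ : ∃ p q, z = Sum.elim p q := ⟨_, _, (Sum.elim_comp_inl_inr z).symm⟩
    rw [mt_bd, J8, Matrix.fromBlocks_mulVec, Matrix.fromBlocks_mulVec, mt_one]
    simp only [Sum.elim_comp_inl, Sum.elim_comp_inr, Matrix.zero_mulVec, Matrix.mulVec_zero, add_zero, zero_add,
      Matrix.one_mulVec, sumElim_dotProduct_sumElim, dotProduct_zero, htv]
    ext (k | k) <;> simp

/-- A block subgroup and one mixed centre give all centres. -/
theorem all_centres {H : Subgroup (GL K8 F)}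
    (hH : ∀ a ∈ spGL 2 F, ∀ b ∈ spGL 2 F, psi φ (bd a b) ∈ H) {p q : I4 → F} (hp : p ≠ 0) (hq : q ≠ 0)
    (h : φ (Sum.elim p q) ∈ centres (sympForm 4 F) H) (v : K8 → F) : v ∈ centres (sympForm 4 F) H := by
  classical
  have hf := CfsgLib.GeomClasses.Symp.isSymplecticForm_sympForm (F := F) 4
  have h2f := CfsgLib.GeomClasses.Symp.isSymplecticForm_sympForm (F := F) 2
  -- moving either component
  have mid : ∀ p p' : I4 → F, p ≠ 0 → p' ≠ 0 → ∃ z, sympForm 2 F p z ≠ 0 ∧ sympForm 2 F z p' ≠ 0 := by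
    intro p p' hp hp'
    obtain ⟨z1, hz1⟩ := (h2f.nondegenerate p hp).2
    obtain ⟨z2, hz2⟩ := (h2f.nondegenerate p' hp').1
    by_cases e1 : sympForm 2 F z1 p' = 0
    · by_cases e2 : sympForm 2 F p z2 = 0
      · exact ⟨z1 + z2, by rwa [h2f.bilinear.add_right, e2, add_zero], by rwa [h2f.bilinear.add_left, e1, zero_add]⟩
      · exact ⟨z2, e2, hz2⟩
    · exact ⟨z1, hz1, e1⟩
  have stepL : ∀ {p p' q : I4 → F}, sympForm 2 F p p' ≠ 0 → φ (Sum.elim p q) ∈ centres (sympForm 4 F) H →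
      φ (Sum.elim p' q) ∈ centres (sympForm 4 F) H := by
    intro p p' q hpp h
    have := CfsgLib.GeomClasses.Symp.centres_step hf h (centre_block φ hφ hH (p' - p)).1 (by
      rw [hφ]
      simp [J8, Matrix.fromBlocks_mulVec, sumElim_dotProduct_sumElim, Matrix.mulVec_sub, dotProduct_sub]
      intro e
      apply hpp
      have ea := h2f.alternating p
      simp only [Cfsg.sympForm] at ea ⊢
      linear_combination e + ea) 1
    rw [one_smul, ← map_add] at this
    convert this using 2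
    ext (k | k) <;> simp
  have stepR : ∀ {p q q' : I4 → F}, sympForm 2 F q q' ≠ 0 → φ (Sum.elim p q) ∈ centres (sympForm 4 F) H →
      φ (Sum.elim p q') ∈ centres (sympForm 4 F) H := by
    intro p q q' hqq h
    have := CfsgLib.GeomClasses.Symp.centres_step hf h (centre_block φ hφ hH (q' - q)).2 (by
      rw [hφ]
      simp [J8, Matrix.fromBlocks_mulVec, sumElim_dotProduct_sumElim, Matrix.mulVec_sub, dotProduct_sub]
      intro e
      apply hqq
      have ea := h2f.alternating q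
      simp only [Cfsg.sympForm] at ea ⊢
      linear_combination e + ea) 1
    rw [one_smul, ← map_add] at this
    convert this using 2
    ext (k | k) <;> simp
  obtain ⟨z, rfl⟩ := φ.surjective v
  obtain ⟨p', q', rfl⟩ : ∃ p' q', z = Sum.elim p' q' := ⟨_, _, (Sum.elim_comp_inl_inr z).symm⟩
  by_cases hp' : p' = 0
  · subst hp'; exact (centre_block φ hφ hH q').2
  by_cases hq' : q' = 0
  · subst hq'; exact (centre_block φ hφ hH p').1
  obtain ⟨y, hy, hy'⟩ := mid p p' hp hp'
  obtain ⟨y2, hy2, hy2'⟩ := mid q q' hq hq'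
  exact stepR hy2' (stepR hy2 (stepL hy' (stepL hy h)))

variable [Finite F]

/-- Maximality, given the coordinates. -/
theorem maximal_of_coords {R : Subgroup (GL K8 F)} (p : ℕ) [Fact p.Prime] [CharP F p] (hcard : Nat.card F = p)
    (h2 : (2 : F) ≠ 0) (hi : Cfsg.Geo.ActsAbsolutelyIrreducibly (Cfsg.Geo.matrixSet R)) (hle : R ≤ spGL 4 F)
    (sgn : ∀ a ∈ R, ∀ b ∈ R, a * b = b * a ∨ Anti a b) (sq : ∀ a ∈ R, mt a * mt a = 1 ∨ mt a * mt a = -1)
    (h128 : Nat.card R = 128) (hz : Nat.card (Subgroup.center R) = 2) (hm : Cfsg.Geo.IsOfMinusType 3 R)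
    (hr : psi φ r0 ∈ R) (hw : psi φ sw ∈ R) :
    Cfsg.Geo.IsMaximalIn (spGL 4 F) (Cfsg.Geo.subgroupNormalizer R ⊓ spGL 4 F) := by
  classical
  haveI : Nonempty K8 := ⟨Sum.inl 0⟩
  set Q : Subgroup (G8 F) := R.comap (psi φ).toMonoidHom with hQdef
  have memQ : ∀ {g}, g ∈ Q ↔ psi φ g ∈ R := Iff.rfl
  have sgnQ : ∀ a ∈ Q, ∀ b ∈ Q, a * b = b * a ∨ a * b = -(b * a) := by
    intro a ha b hb
    rcases sgn _ ha _ hb with e | e
    · exact Or.inl ((psi φ).injective (by rw [map_mul, map_mul]; exact e))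
    · exact Or.inr ((psi φ).injective (by rw [psi_neg, map_mul, map_mul]; exact Units.ext e))
  have sqQ : ∀ a ∈ Q, a * a = 1 ∨ a * a = -1 := by
    intro a ha
    rcases sq _ ha with e | e
    · exact Or.inl ((psi φ).injective (by rw [map_mul, map_one]; exact Units.ext e))
    · exact Or.inr ((psi φ).injective (by rw [psi_neg, map_mul, map_one]; exact Units.ext e))
  have r0Q : (r0 : G8 F) ∈ Q := hr
  have swQ : (sw : G8 F) ∈ Q := hw
  let dg : GL I4 F →* G8 F :=
    { toFun := fun a => bd a a, map_one' := bd_one, map_mul' := fun a b => (bd_mul a a b b).symm }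
  set R32 : Subgroup (GL I4 F) := Q.comap dg with hR32
  have mem32 : ∀ {a}, a ∈ R32 ↔ bd a a ∈ Q := Iff.rfl
  have bmul : ∀ a : GL I4 F, bd a a * r0 = bd a (-a) := fun a => by rw [r0, bd_mul, mul_one, mul_neg, mul_one]
  have nne : ∀ a : GL I4 F, a ≠ -a := fun a e => by
    have h1 : mt a = -mt a := congrArg Units.val e
    have h3 : (2 : F) • mt a = 0 := by rw [two_smul]; nth_rw 2 [h1]; exact add_neg_cancel _
    exact a.ne_zero ((smul_eq_zero.1 h3).resolve_left h2)
  have diag : ∀ g ∈ Q, g * r0 = r0 * g → ∃ a ∈ R32, g = bd a a ∨ g = bd a (-a) := by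
    intro g hg hc
    obtain ⟨a, b, rfl⟩ := exists_bd h2 hc
    have eb : b = a ∨ b = -a := by
      rcases sgnQ _ hg _ swQ with e | e
      · left
        have := congrArg (fun z => sw * z) e
        simp only [← mul_assoc, sw_bd, sw_sw, one_mul] at this
        exact (bd_inj this).1
      · right
        have := congrArg (fun z => sw * z) e
        simp only [mul_neg, ← mul_assoc, sw_bd, sw_sw, one_mul, bd_neg] at this
        exact (bd_inj this).1
    rcases eb with eb | eb <;> rw [eb] at hg ⊢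
    · exact ⟨a, mem32.2 hg, Or.inl rfl⟩
    · refine ⟨a, mem32.2 ?_, Or.inr rfl⟩
      have := Q.mul_mem hg r0Q
      rwa [r0, bd_mul, mul_one, mul_neg, mul_one, neg_neg] at this
  have hQ : Model R32 Q := by
    intro g
    constructor
    · intro hg
      rcases sgnQ g hg r0 r0Q with e | e
      · obtain ⟨a, ha, h⟩ := diag g hg e
        exact ⟨a, ha, h.elim Or.inl fun h => Or.inr (Or.inl h)⟩
      · have e2 : sw * g * r0 = r0 * (sw * g) := by
          have es : (sw : G8 F) * r0 = -(r0 * sw) := by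
            rw [r0, show (sw : G8 F) * bd (1 : GL I4 F) (-1 : GL I4 F) = sw * bd (1 : GL I4 F) (-1 : GL I4 F) * sw * sw by rw [mul_assoc, sw_sw, mul_one], sw_bd,
              ← neg_mul, bd_neg, neg_neg]
          rw [mul_assoc, e, mul_neg, ← mul_assoc, es, neg_mul, neg_neg, mul_assoc]
        obtain ⟨a, ha, h⟩ := diag _ (Q.mul_mem swQ hg) e2
        refine ⟨a, ha, h.elim (fun h => Or.inr (Or.inr (Or.inl ?_))) fun h => Or.inr (Or.inr (Or.inr ?_))⟩ <;>
          rw [← h, ← mul_assoc, sw_sw, one_mul]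
    · rintro ⟨a, ha, rfl | rfl | rfl | rfl⟩
      · exact ha
      · rw [← bmul]; exact Q.mul_mem ha r0Q
      · exact Q.mul_mem swQ ha
      · rw [← bmul]; exact Q.mul_mem swQ (Q.mul_mem ha r0Q)
  -- the four-dimensional group
  have hle32 : R32 ≤ spGL 2 F := fun a ha => (of_bd_mem ((psi_mem φ hφ).1 (hle (memQ.1 (mem32.1 ha))))).1
  have sgn32 : ∀ a ∈ R32, ∀ b ∈ R32, a * b = b * a ∨ Anti a b := by
    intro a ha b hb
    rcases sgnQ _ (mem32.1 ha) _ (mem32.1 hb) with e | e
    · left; rw [bd_mul, bd_mul] at e; exact (bd_inj e).1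
    · right; rw [bd_mul, bd_mul, bd_neg] at e; exact congrArg Units.val (bd_inj e).1
  have sq32 : ∀ a ∈ R32, mt a * mt a = 1 ∨ mt a * mt a = -1 := by
    intro a ha
    rcases sqQ _ (mem32.1 ha) with e | e <;> rw [bd_mul, ← bd_one] at e
    · exact Or.inl (congrArg Units.val (bd_inj e).1)
    · rw [bd_neg] at e
      exact Or.inr (congrArg Units.val (bd_inj e).1)
  have inQ : ∀ (s : Matrix K8 K8 F), s ∈ Cfsg.Geo.matrixSet R → ∃ a ∈ R32,
      ∃ g : G8 F, (g = bd a a ∨ g = bd a (-a) ∨ g = sw * bd a a ∨ g = sw * bd a (-a)) ∧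
        ∀ z, s *ᵥ φ z = φ (mt g *ᵥ z) := by
    rintro _ ⟨g, hg, rfl⟩
    obtain ⟨a, ha, h⟩ := (hQ ((psi φ).symm g)).1 (memQ.2 (by rw [MulEquiv.apply_symm_apply]; exact hg))
    refine ⟨a, ha, _, h, fun z => ?_⟩
    rw [← psi_apply, MulEquiv.apply_symm_apply]
  have irr32 : Cfsg.Geo.ActsAbsolutelyIrreducibly (Cfsg.Geo.matrixSet R32) := by
    refine ⟨fun W hW => ?_, fun M hM => ?_⟩
    · let W8 : Submodule F (I4 ⊕ I4 → F) :=
        { carrier := {z | z ∘ Sum.inl ∈ W ∧ z ∘ Sum.inr ∈ W}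
          zero_mem' := ⟨W.zero_mem, W.zero_mem⟩
          add_mem' := fun h h' => ⟨W.add_mem h.1 h'.1, W.add_mem h.2 h'.2⟩
          smul_mem' := fun c _ h => ⟨W.smul_mem c h.1, W.smul_mem c h.2⟩ }
      have hWa : ∀ a ∈ R32, ∀ x ∈ W, mt a *ᵥ x ∈ W := fun a ha x hx =>
        hW _ ⟨a, ha, rfl⟩ ⟨x, hx, (Matrix.toLin'_apply _ _)⟩
      have key : W8.map φ.toLinearMap = ⊥ ∨ W8.map φ.toLinearMap = ⊤ := by
        refine hi.1 _ fun s hs => ?_
        rintro _ ⟨_, ⟨z, ⟨hzl, hzr⟩, rfl⟩, rfl⟩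
        obtain ⟨a, ha, g, hg, hgz⟩ := inQ s hs
        refine ⟨mt g *ᵥ z, ?_, by rw [Matrix.toLin'_apply]; exact (hgz z).symm⟩
        have n1 : ∀ x ∈ W, mt (-a) *ᵥ x ∈ W := fun x hx => by
          rw [mt_neg, Matrix.neg_mulVec]; exact W.neg_mem (hWa a ha x hx)
        have hsw : ∀ y : I4 ⊕ I4 → F, y ∈ W8 → mt (sw : G8 F) *ᵥ y ∈ W8 := fun y hy => by
          rw [mt_sw, Matrix.fromBlocks_mulVec]
          exact ⟨by simpa using hy.2, by simpa using hy.1⟩
        have d1 : mt (bd a a) *ᵥ z ∈ W8 := by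
          rw [mt_bd, Matrix.fromBlocks_mulVec]
          exact ⟨by simpa using hWa a ha _ hzl, by simpa using hWa a ha _ hzr⟩
        have d2 : mt (bd a (-a)) *ᵥ z ∈ W8 := by
          rw [mt_bd, Matrix.fromBlocks_mulVec]
          exact ⟨by simpa using hWa a ha _ hzl, by simpa using n1 _ hzr⟩
        rcases hg with rfl | rfl | rfl | rfl
        · exact d1
        · exact d2
        · show (mt (sw : G8 F) * mt (bd a a)) *ᵥ z ∈ W8
          rw [← Matrix.mulVec_mulVec]; exact hsw _ d1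
        · show (mt (sw : G8 F) * mt (bd a (-a))) *ᵥ z ∈ W8
          rw [← Matrix.mulVec_mulVec]; exact hsw _ d2
      rcases key with k | k
      · left
        rw [eq_bot_iff]
        intro x hx
        have : φ (Sum.elim x 0) ∈ W8.map φ.toLinearMap := ⟨_, ⟨by simpa using hx, by simp⟩, rfl⟩
        rw [k, Submodule.mem_bot, LinearEquiv.map_eq_zero_iff] at this
        exact (Submodule.mem_bot F).2 (funext fun i => congrFun this (Sum.inl i))
      · right
        rw [eq_top_iff]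
        intro x _
        have : φ (Sum.elim x 0) ∈ W8.map φ.toLinearMap := k ▸ Submodule.mem_top
        obtain ⟨z, hz, e⟩ := this
        have := (φ.injective e) ▸ hz.1
        simpa using this
    · set T := fromBlocks M 0 0 M
      set S := LinearMap.toMatrix' ((φ.toLinearMap ∘ₗ Matrix.toLin' T) ∘ₗ φ.symm.toLinearMap) with hS
      have hSz : ∀ z, S *ᵥ φ z = φ (T *ᵥ z) := fun z => by
        rw [hS, ← Matrix.toLin'_apply, Matrix.toLin'_toMatrix']; simp
      obtain ⟨c, hc⟩ := hi.2 S fun s hs => by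
        refine Matrix.ext_of_mulVec_single fun i => ?_
        obtain ⟨z, hz⟩ := φ.surjective (Pi.single i 1)
        obtain ⟨a, ha, g, hg, hgz⟩ := inQ s hs
        rw [← hz, ← Matrix.mulVec_mulVec, ← Matrix.mulVec_mulVec, hgz, hSz, hSz, hgz, Matrix.mulVec_mulVec,
          Matrix.mulVec_mulVec]
        congr 2
        have hMa := hM _ ⟨a, ha, rfl⟩
        have h1 : T * mt (bd a a) = mt (bd a a) * T := by simp [T, mt_bd, fromBlocks_multiply, hMa]
        have h3 : T * mt (bd a (-a)) = mt (bd a (-a)) * T := by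
          simp [T, mt_bd, mt_neg, fromBlocks_multiply, hMa]
        have h4 : T * mt (sw : G8 F) = mt (sw : G8 F) * T := by simp [T, mt_sw, fromBlocks_multiply]
        rcases hg with rfl | rfl | rfl | rfl
        · exact h1
        · exact h3
        · show T * (mt (sw : G8 F) * mt (bd a a)) = mt (sw : G8 F) * mt (bd a a) * T
          rw [← mul_assoc, h4, mul_assoc, h1, mul_assoc]
        · show T * (mt (sw : G8 F) * mt (bd a (-a))) = mt (sw : G8 F) * mt (bd a (-a)) * T
          rw [← mul_assoc, h4, mul_assoc, h3, mul_assoc]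
      refine ⟨c, Matrix.ext_of_mulVec_single fun i => ?_⟩
      have h1 := hSz (Sum.elim (Pi.single i 1 : I4 → F) 0)
      rw [hc, Matrix.smul_mulVec, Matrix.one_mulVec, ← map_smul] at h1
      have h2 := φ.injective h1
      rw [Matrix.fromBlocks_mulVec, Sum.elim_comp_inl, Sum.elim_comp_inr] at h2
      funext k
      have := congrFun h2 (Sum.inl k)
      rw [Matrix.smul_mulVec, Matrix.one_mulVec]
      simp [Pi.single_apply] at this ⊢
      exact this.symm
  have hfin : Finite R := inferInstance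
  have hcardQ : Nat.card Q = 128 := by
    rw [← h128]
    exact Nat.card_congr ((psi φ).toEquiv.subtypeEquiv fun _ => Iff.rfl)
  have h32 : Nat.card R32 = 32 := by
    let T : R32 × Bool × Bool → Q := fun t =>
      ⟨(if t.2.1 then sw else 1) * bd (t.1 : GL I4 F) (if t.2.2 then -(t.1 : GL I4 F) else t.1), by
        obtain ⟨⟨a, ha⟩, u, v⟩ := t
        refine (hQ _).2 ⟨a, ha, ?_⟩
        cases u <;> cases v <;> simp⟩
    have hT : Function.Bijective T := by
      constructor
      · rintro ⟨⟨a, ha⟩, u, v⟩ ⟨⟨a', ha'⟩, u', v'⟩ e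
        have e' := congrArg Subtype.val e
        simp only [T] at e'
        cases u <;> cases u' <;> cases v <;> cases v' <;>
          simp only [if_true, if_false, one_mul, Bool.false_eq_true] at e' <;>
          first
          | (obtain ⟨rfl, -⟩ := bd_inj e'; rfl)
          | (obtain ⟨rfl, -⟩ := bd_inj (mul_left_cancel e'); rfl)
          | (exfalso; exact sw_ne_bd _ _ _ _ e')
          | (exfalso; exact sw_ne_bd _ _ _ _ e'.symm)
          | (exfalso; obtain ⟨rfl, h'⟩ := bd_inj e'; exact nne _ h')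
          | (exfalso; obtain ⟨rfl, h'⟩ := bd_inj e'; exact nne _ h'.symm)
          | (exfalso; obtain ⟨rfl, h'⟩ := bd_inj (mul_left_cancel e'); exact nne _ h')
          | (exfalso; obtain ⟨rfl, h'⟩ := bd_inj (mul_left_cancel e'); exact nne _ h'.symm)
      · rintro ⟨g, hg⟩
        obtain ⟨a, ha, h | h | h | h⟩ := (hQ g).1 hg <;> subst h
        exacts [⟨(⟨a, ha⟩, false, false), Subtype.ext (by simp [T])⟩, ⟨(⟨a, ha⟩, false, true), Subtype.ext (by simp [T])⟩,
          ⟨(⟨a, ha⟩, true, false), Subtype.ext (by simp [T])⟩, ⟨(⟨a, ha⟩, true, true), Subtype.ext (by simp [T])⟩]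
    have := Nat.card_congr (Equiv.ofBijective T hT)
    rw [hcardQ, Nat.card_prod, Nat.card_prod, Nat.card_eq_fintype_card (α := Bool), Fintype.card_bool] at this
    omega
  have hm1R : (-1 : GL K8 F) ∈ R := by
    have e1 : (sw : G8 F) * r0 * (sw * r0) = -1 := by
      rw [← mul_assoc, r0, sw_bd, bd_mul, ← bd_one, bd_neg]
      simp
    have := Q.mul_mem (Q.mul_mem swQ r0Q) (Q.mul_mem swQ r0Q)
    rw [e1] at this
    have := memQ.1 this
    rwa [psi_neg, map_one] at this
  have hm32 : (-1 : GL I4 F) ∈ R32 := by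
    rw [mem32, ← bd_neg, bd_one, memQ, psi_neg, map_one]
    exact hm1R
  have hz32 : Nat.card (Subgroup.center R32) = 2 := by
    obtain ⟨u, v, huv, huniv⟩ := Nat.card_eq_two_iff.1 hz
    have m1c : (⟨-1, hm1R⟩ : R) ∈ Subgroup.center R :=
      (mem_center_iff hi _).2 ⟨-1, by simp [PrimeElusive.SymplType.mt]⟩
    have one_ne : (⟨⟨-1, hm1R⟩, m1c⟩ : Subgroup.center R) ≠ 1 := fun e => by
      have h1 := congrArg (fun z : Subgroup.center R => mt ((z : R) : GL K8 F) (Sum.inl 0) (Sum.inl 0)) e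
      simp [PrimeElusive.SymplType.mt] at h1
      exact h2 (by linear_combination -h1)
    have cR : ∀ z : Subgroup.center R, z = 1 ∨ z = ⟨⟨-1, hm1R⟩, m1c⟩ := by
      intro z
      have mem : ∀ z : Subgroup.center R, z = u ∨ z = v := fun z => by
        have := huniv ▸ Set.mem_univ z
        simpa using this
      rcases mem z with rfl | rfl <;> rcases mem 1 with e1 | e1 <;> rcases mem ⟨⟨-1, hm1R⟩, m1c⟩ with e2 | e2
      all_goals first
        | exact Or.inl e1.symm
        | exact Or.inr e2.symm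
        | exact absurd (e2.trans e1.symm) one_ne
    refine Nat.card_eq_two_iff.2 ⟨1, ⟨⟨-1, hm32⟩, (mem_center_iff irr32 _).2 ⟨-1, by simp [PrimeElusive.SymplType.mt]⟩⟩,
      fun e => nne (1 : GL I4 F) (congrArg (fun z : Subgroup.center R32 => ((z : R32) : GL I4 F)) e), ?_⟩
    refine Set.eq_univ_of_forall fun z => ?_
    obtain ⟨⟨a, ha⟩, hac⟩ := z
    obtain ⟨c, hc⟩ := (mem_center_iff irr32 _).1 hac
    have hsc : Sc (psi φ (bd a a)) := by
      refine ⟨c, Matrix.ext_of_mulVec_single fun i => ?_⟩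
      obtain ⟨y, hy⟩ := φ.surjective (Pi.single i 1)
      rw [← hy, psi_apply, Matrix.smul_mulVec, Matrix.one_mulVec, ← map_smul, mt_bd, show mt a = c • 1 from hc,
        Matrix.fromBlocks_mulVec]
      congr 1
      ext (k | k) <;> simp [Matrix.smul_mulVec]
    rcases cR ⟨⟨_, memQ.1 (mem32.1 ha)⟩, (mem_center_iff hi _).2 hsc⟩ with e | e <;>
      have e' := congrArg (fun z : Subgroup.center R => ((z : R) : GL K8 F)) e <;>
      simp only at e'
    · left
      have : bd a a = bd 1 1 := (psi φ).injective (by rw [e', bd_one, map_one]; rfl)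
      exact Subtype.ext (Subtype.ext (bd_inj this).1)
    · right
      have : bd a a = bd (-1 : GL I4 F) (-1 : GL I4 F) := (psi φ).injective (by rw [e', ← bd_neg, bd_one, psi_neg, map_one])
      exact Subtype.ext (Subtype.ext (bd_inj this).1)
  have D : Data R32 2 :=
    ⟨by simp, h2, irr32, sgn32, sq32, h32, hz32, two_pos⟩
  have hminus : Cfsg.Geo.IsOfMinusType 2 R32 := by
    intro A hA hA2
    let d1 : A → R := fun a =>
      ⟨psi φ (bd ((a : R32) : GL I4 F) ((a : R32) : GL I4 F)), memQ.1 (mem32.1 (a : R32).2)⟩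
    let rR : R := ⟨psi φ r0, hr⟩
    have d1mul : ∀ a b, d1 (a * b) = d1 a * d1 b := fun a b => Subtype.ext (by
      show psi φ _ = psi φ _ * psi φ _
      rw [← map_mul, bd_mul]
      rfl)
    have d1r : ∀ a, d1 a * rR = rR * d1 a := fun a => Subtype.ext (by
      show psi φ _ * psi φ r0 = psi φ r0 * psi φ _
      rw [← map_mul, ← map_mul, r0, bd_mul, bd_mul]; simp)
    have d1one : d1 1 = 1 := Subtype.ext (by simp [d1, bd_one])
    have rr : rR * rR = 1 := Subtype.ext (by
      show psi φ r0 * psi φ r0 = 1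
      rw [← map_mul, r0_sq, map_one])
    have sqa : ∀ a : A, a * a = 1 := fun a => Subtype.ext (hA2 a a.2)
    let T : A × Bool → R := fun t => d1 t.1 * (if t.2 then rR else 1)
    have Tmul : ∀ t t', T t * T t' = T (t.1 * t'.1, xor t.2 t'.2) := by
      rintro ⟨a, u⟩ ⟨b, v⟩
      simp only [T, d1mul]
      cases u <;> cases v <;> simp
      · rw [mul_assoc]
      · rw [mul_assoc (d1 a), ← d1r, mul_assoc]
      · rw [mul_assoc (d1 a), ← mul_assoc rR, ← d1r, mul_assoc (d1 b), rr, mul_one]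
    let A' : Subgroup R :=
      { carrier := Set.range T
        one_mem' := ⟨(1, false), by simp [T, d1one]⟩
        mul_mem' := by rintro _ _ ⟨t, rfl⟩ ⟨t', rfl⟩; exact ⟨_, (Tmul t t').symm⟩
        inv_mem' := by
          rintro _ ⟨t, rfl⟩
          refine ⟨t, (inv_eq_of_mul_eq_one_right ?_).symm⟩
          rw [Tmul, sqa, Bool.xor_self]
          simp [T, d1one] }
    have hcomm : IsMulCommutative A' := ⟨⟨fun x y => by
      obtain ⟨_, t, rfl⟩ := x
      obtain ⟨_, t', rfl⟩ := y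
      refine Subtype.ext ?_
      show T t * T t' = T t' * T t
      rw [Tmul, Tmul, Bool.xor_comm, hA.is_comm.comm]⟩⟩
    have hlt := hm A' hcomm (by
      rintro _ ⟨t, rfl⟩
      rw [Tmul, sqa, Bool.xor_self]
      simp [T, d1one])
    have Tinj : Function.Injective T := by
      rintro ⟨a, u⟩ ⟨b, v⟩ e
      have e' := congrArg Subtype.val e
      simp only [T, d1, rR] at e'
      cases u <;> cases v <;>
        simp only [if_true, if_false, mul_one, Bool.false_eq_true, Subgroup.coe_mul] at e' <;>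
        (try rw [← map_mul, bmul] at e') <;> (try rw [← map_mul, bmul] at e') <;> replace e' := (psi φ).injective e'
      · obtain ⟨h1, -⟩ := bd_inj e'; obtain rfl : a = b := Subtype.ext (Subtype.ext h1); rfl
      · obtain ⟨h1, h3⟩ := bd_inj e'; rw [h1] at h3; exact absurd h3 (nne _)
      · obtain ⟨h1, h3⟩ := bd_inj e'; rw [h1] at h3; exact absurd h3.symm (nne _)
      · obtain ⟨h1, -⟩ := bd_inj e'; obtain rfl : a = b := Subtype.ext (Subtype.ext h1); rfl
    have hc : Nat.card A' = Nat.card A * 2 := by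
      show Nat.card (Set.range T) = _
      rw [Nat.card_range_of_injective Tinj, Nat.card_prod, Nat.card_eq_fintype_card (α := Bool), Fintype.card_bool]
    omega
  obtain ⟨fr⟩ := D.frame_minus hminus
  -- transport
  have hN : (Cfsg.Geo.subgroupNormalizer R ⊓ spGL 4 F).comap (psi φ).toMonoidHom = N8 Q := by
    ext g
    simp only [Subgroup.mem_comap, Subgroup.mem_inf, MulEquiv.coe_toMonoidHom, psi_mem φ hφ,
      Cfsg.Geo.subgroupNormalizer, Subgroup.mem_normalizer_iff]
    refine and_congr_left fun _ => ⟨fun h x => ?_, fun h x => ?_⟩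
    · have := h (psi φ x)
      rwa [← map_inv, ← map_mul, ← map_mul] at this
    · obtain ⟨y, rfl⟩ := (psi φ).surjective x
      rw [← map_inv, ← map_mul, ← map_mul]
      exact h y
  have hsp : (spGL 4 F).comap (psi φ).toMonoidHom = sp8 F := by ext g; exact psi_mem φ hφ
  have cinj := Subgroup.comap_injective (f := (psi φ).toMonoidHom) (psi φ).surjective
  refine ⟨lt_of_le_of_ne inf_le_right fun e => ?_, fun M hM hMsp => ?_⟩
  · have := normalizer_lt fr D hle32 hQ p hcard
    rw [← hN, ← hsp, e] at this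
    exact lt_irrefl _ this
  rcases le_or_all fr D hle32 hQ p hcard (H := M.comap (psi φ).toMonoidHom) (hN ▸ Subgroup.comap_mono hM)
    (hsp ▸ Subgroup.comap_mono hMsp) with h | h
  · exact Or.inl (cinj (le_antisymm (hN.symm ▸ h) (Subgroup.comap_mono hM)))
  refine Or.inr (CfsgLib.GeomClasses.Symp.eq_spGL_of_centres hMsp ?_)
  obtain ⟨a, ha, ha0⟩ : ∃ a, pp fr 0 *ᵥ a = a ∧ a ≠ 0 := by
    by_contra hno
    push Not at hno
    exact pp_ne_zero fr D 0 (Matrix.ext_of_mulVec_single fun k => by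
      rw [Matrix.zero_mulVec]; exact hno _ (by rw [Matrix.mulVec_mulVec, pp_pp fr D]))
  set b := gen fr 1 *ᵥ a with hb
  obtain ⟨ep, em⟩ := anti_pp fr D 0 (A := gen fr 1) (gen_anti fr D (by decide))
  have hpb : pm fr 0 *ᵥ b = b := by rw [hb, Matrix.mulVec_mulVec, ← ep, ← Matrix.mulVec_mulVec, ha]
  have hb0 : b ≠ 0 := fun e => ha0 (by
    have := congrArg (fun z => gen fr 1 *ᵥ z) e
    simpa [hb, Matrix.mulVec_mulVec, gen_sq fr D] using this)
  have hnM : psi φ (n13 fr D 0) ∈ M := by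
    have h1 : n13 fr D 0 ∈ N8 Q := n13_mem fr D hle32 hQ 0
    rw [← hN] at h1
    exact hM h1
  have hcen := CfsgLib.GeomClasses.Symp.centres_invariant_spGL hMsp hnM (centre_block φ hφ h (a + b)).1
  rw [show ((psi φ (n13 fr D 0) : GL K8 F) : Matrix K8 K8 F) *ᵥ φ (Sum.elim (a + b) 0) =
    φ (mt (n13 fr D 0) *ᵥ Sum.elim (a + b) 0) from psi_apply φ _ _, mt_n13, Matrix.fromBlocks_mulVec] at hcen
  simp only [Sum.elim_comp_inl, Sum.elim_comp_inr, Matrix.mulVec_zero, add_zero, Matrix.mulVec_add, hpb, ha,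
    pm_of_pp fr D ha, zero_add] at hcen
  have hab : pp fr 0 *ᵥ b = 0 := by rw [← hpb, Matrix.mulVec_mulVec, pp_pm fr D, Matrix.zero_mulVec]
  rw [hab, add_zero] at hcen
  exact all_centres φ hφ h hb0 ha0 hcen

omit φ hφ

/-- The normaliser of an extraspecial group of order 128 of minus type is maximal in `Sp₈(p)`. -/
theorem maximal_extraspecial_eight [Fintype F] (p : ℕ) (R : Subgroup (GL K8 F)) (hp : p.Prime) (hodd : Odd p)
    (hF : Fintype.card F = p) (hs : Cfsg.Geo.IsSymplecticTypeGroup 2 R)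
    (hi : Cfsg.Geo.ActsAbsolutelyIrreducibly (Cfsg.Geo.matrixSet R)) (hle : R ≤ spGL 4 F) (hc : Nat.card R = 128)
    (hz : Nat.card (Subgroup.center R) = 2) (hm : Cfsg.Geo.IsOfMinusType 3 R) :
    Cfsg.Geo.IsMaximalIn (spGL 4 F) (Cfsg.Geo.subgroupNormalizer R ⊓ spGL 4 F) := by
  classical
  have : Fact p.Prime := ⟨hp⟩
  have : CharP F p := by
    obtain ⟨n, hr, hn⟩ := FiniteField.card F (ringChar F)
    have hpr : ringChar F = p := by
      rw [hF] at hn
      exact ((Nat.prime_dvd_prime_iff_eq hr hp).1 (hn ▸ dvd_pow_self _ (PNat.ne_zero n)))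
    exact hpr ▸ ringChar.charP F
  have h2 : (2 : F) ≠ 0 := fun e => by
    have := (CharP.cast_eq_zero_iff F p 2).1 (by exact_mod_cast e)
    have := (Nat.prime_dvd_prime_iff_eq hp Nat.prime_two).1 this
    subst this
    exact absurd hodd (by decide)
  haveI : Nonempty K8 := ⟨Sum.inl 0⟩
  obtain ⟨sgn, sq⟩ := signs hs hi
  obtain ⟨r, hr, w, hw, rr, ww, wr⟩ := exists_invols h2 hi sgn sq hz (by omega)
  have hf := CfsgLib.GeomClasses.Symp.isSymplecticForm_sympForm (F := F) 4
  have rr' : ∀ v, mt r *ᵥ (mt r *ᵥ v) = v := fun v => by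
    rw [Matrix.mulVec_mulVec, ← Units.val_mul, rr, Units.val_one, Matrix.one_mulVec]
  have ww' : ∀ v, mt w *ᵥ (mt w *ᵥ v) = v := fun v => by
    rw [Matrix.mulVec_mulVec, ← Units.val_mul, ww, Units.val_one, Matrix.one_mulVec]
  have rw' : ∀ v, mt r *ᵥ (mt w *ᵥ v) = -(mt w *ᵥ (mt r *ᵥ v)) := fun v => by
    have e : mt w * mt r = -(mt r * mt w) := congrArg Units.val wr
    rw [Matrix.mulVec_mulVec, Matrix.mulVec_mulVec, ← Matrix.neg_mulVec, e, neg_neg]
  set Vp : Submodule F (K8 → F) := LinearMap.ker ((mt r).mulVecLin - LinearMap.id) with hVp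
  have memV : ∀ {v}, v ∈ Vp ↔ mt r *ᵥ v = v := fun {v} => by simp [hVp, sub_eq_zero]
  have horth : ∀ x ∈ Vp, ∀ y ∈ Vp, sympForm 4 F x (mt w *ᵥ y) = 0 := by
    intro x hx y hy
    have h1 : sympForm 4 F (mt r *ᵥ x) (mt r *ᵥ (mt w *ᵥ y)) = sympForm 4 F x (mt w *ᵥ y) := hle hr x (mt w *ᵥ y)
    rw [memV.1 hx, rw', memV.1 hy] at h1
    rw [CfsgLib.GeomClasses.Symp.neg_right hf] at h1
    have h3 : (2 : F) * sympForm 4 F x (mt w *ᵥ y) = 0 := by linear_combination -h1
    exact (mul_eq_zero.1 h3).resolve_left h2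
  have split : ∀ v, ∃ x ∈ Vp, ∃ y ∈ Vp, x + mt w *ᵥ y = v := by
    intro v
    refine ⟨(2 : F)⁻¹ • (v + mt r *ᵥ v), ?_, mt w *ᵥ ((2 : F)⁻¹ • (v - mt r *ᵥ v)), ?_, ?_⟩
    · rw [memV, Matrix.mulVec_smul, Matrix.mulVec_add, rr', add_comm]
    · rw [memV, rw', Matrix.mulVec_smul, Matrix.mulVec_sub, rr', ← Matrix.mulVec_neg, ← smul_neg, neg_sub]
    · rw [ww', ← smul_add, add_add_sub_cancel, ← two_smul F v, smul_smul, inv_mul_cancel₀ h2, one_smul]
  let L : (Vp × Vp) →ₗ[F] (K8 → F) :=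
    LinearMap.coprod Vp.subtype ((mt w).mulVecLin ∘ₗ Vp.subtype)
  have Linj : Function.Injective L := by
    rw [injective_iff_map_eq_zero]
    rintro ⟨x, y⟩ e
    have e1 : (x : K8 → F) + mt w *ᵥ (y : K8 → F) = 0 := e
    have e2 := congrArg (fun v => mt r *ᵥ v) e1
    simp only [Matrix.mulVec_add, rw', memV.1 x.2, memV.1 y.2, Matrix.mulVec_zero] at e2
    have hx : (2 : F) • (x : K8 → F) = 0 := by linear_combination (norm := module) e1 + e2
    have hx0 := (smul_eq_zero.1 hx).resolve_left h2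
    rw [hx0, zero_add] at e1
    have hy0 : (y : K8 → F) = 0 := by have := ww' y; rw [e1, Matrix.mulVec_zero] at this; exact this.symm
    exact Prod.ext (Subtype.ext hx0) (Subtype.ext hy0)
  have Lsurj : Function.Surjective L := fun v => by
    obtain ⟨x, hx, y, hy, e⟩ := split v
    exact ⟨(⟨x, hx⟩, ⟨y, hy⟩), e⟩
  have hdim : Module.finrank F Vp = 2 * 2 := by
    have h1 := (LinearEquiv.ofBijective L ⟨Linj, Lsurj⟩).finrank_eq
    rw [Module.finrank_prod, Module.finrank_fintype_fun_eq_card] at h1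
    simp [Fintype.card_sum] at h1
    omega
  let B : LinearMap.BilinForm F Vp :=
    (CfsgLib.GeomClasses.Symp.bil hf).compl₁₂ Vp.subtype Vp.subtype
  obtain ⟨e, he⟩ := CfsgLib.Sp.exists_std_equiv B (fun x => hf.alternating _) (fun x hx => by
    by_contra hne
    obtain ⟨v, hv⟩ := (hf.nondegenerate (x : K8 → F) (fun h => hne (Subtype.ext h))).2
    obtain ⟨a, ha, b, hb, rfl⟩ := split v
    refine hv ?_
    rw [CfsgLib.GeomClasses.Symp.add_right hf, horth _ x.2 _ hb, add_zero]
    exact hx ⟨a, ha⟩) hdim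
  let φ : (I4 ⊕ I4 → F) ≃ₗ[F] (K8 → F) :=
    ((LinearEquiv.sumArrowLequivProdArrow I4 I4 F F).trans (e.prodCongr e)).trans
      (LinearEquiv.ofBijective L ⟨Linj, Lsurj⟩)
  have φv : ∀ z, φ z = (e (z ∘ Sum.inl) : K8 → F) + mt w *ᵥ (e (z ∘ Sum.inr) : K8 → F) := fun z => rfl
  have hφ : ∀ z z', sympForm 4 F (φ z) (φ z') = z ⬝ᵥ J8 F *ᵥ z' := by
    intro z z'
    obtain ⟨x, y, rfl⟩ : ∃ x y, z = Sum.elim x y := ⟨_, _, (Sum.elim_comp_inl_inr z).symm⟩
    obtain ⟨x', y', rfl⟩ : ∃ x y, z' = Sum.elim x y := ⟨_, _, (Sum.elim_comp_inl_inr z').symm⟩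
    have hwi : ∀ u v, sympForm 4 F (mt w *ᵥ u) (mt w *ᵥ v) = sympForm 4 F u v := hle hw
    rw [φv, φv, CfsgLib.GeomClasses.Symp.add_left hf, CfsgLib.GeomClasses.Symp.add_right hf,
      CfsgLib.GeomClasses.Symp.add_right hf, hwi, horth _ (e _).2 _ (e _).2, add_zero]
    rw [hf.skew (mt w *ᵥ _) (e _ : K8 → F), horth _ (e _).2 _ (e _).2, neg_zero, zero_add]
    have e1 : ∀ u v, sympForm 4 F (e u : K8 → F) (e v : K8 → F) = sympForm 2 F u v := he
    rw [e1, e1, J8, Matrix.fromBlocks_mulVec]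
    simp [sumElim_dotProduct_sumElim, Cfsg.sympForm]
  refine maximal_of_coords φ hφ p (by rw [Nat.card_eq_fintype_card, hF]) h2 hi hle sgn sq hc hz hm ?_ ?_
  · convert hr using 1
    refine Units.ext (Matrix.ext_of_mulVec_single fun i => ?_)
    obtain ⟨z, hz⟩ := φ.surjective (Pi.single i 1)
    rw [← hz, psi_apply, φv z, Matrix.mulVec_add, rw', memV.1 (e _).2, memV.1 (e _).2, φv, r0, mt_bd,
      Matrix.fromBlocks_mulVec]
    simp [mt_neg, mt_one, Matrix.mulVec_neg, Matrix.neg_mulVec]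
  · convert hw using 1
    refine Units.ext (Matrix.ext_of_mulVec_single fun i => ?_)
    obtain ⟨z, hz⟩ := φ.surjective (Pi.single i 1)
    rw [← hz, psi_apply, φv z, Matrix.mulVec_add, ww', φv, mt_sw, Matrix.fromBlocks_mulVec]
    simp [add_comm]

end CfsgLib.ExtraSpEight
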