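import Cfsg.Agent.Lib.Sp4Odd.CliffordMax

/-!
The signed permutation action of the normaliser of an extraspecial group of order 32 of minus type on its five
anticommuting involutions, and the involutions of that normaliser.
-/

set_option autoImplicit false
set_option linter.unusedSectionVars false

namespace CfsgLib.ExtraSpEight

open Matrix Cfsg CfsgLib.Orth CfsgLib.Sp4Odd CfsgLib.PrimeElusive.SymplType
open CfsgLib.GeomClasses.Frame (Mono)

open scoped MatrixGroups

variable {F : Type*} [Field F] {R : Subgroup (GL (Fin 2 ⊕ Fin 2) F)}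

theorem mt_mul (g k : GL (Fin 2 ⊕ Fin 2) F) : mt (g * k) = mt g * mt k := rfl

theorem mt_neg (g : GL (Fin 2 ⊕ Fin 2) F) : mt (-g) = -mt g := rfl

theorem mt_one : mt (1 : GL (Fin 2 ⊕ Fin 2) F) = 1 := rfl

theorem mt_ext {g k : GL (Fin 2 ⊕ Fin 2) F} (h : mt g = mt k) : g = k := Units.ext h

/-- The normaliser in the symplectic group. -/
abbrev nor (R : Subgroup (GL (Fin 2 ⊕ Fin 2) F)) : Subgroup (GL (Fin 2 ⊕ Fin 2) F) :=
  Cfsg.Geo.subgroupNormalizer R ⊓ spGL 2 F

variable (fr : PrimeElusive.SymplType.Frame R) (D : Data R 2)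

/-- The involutions as group elements. -/
noncomputable def ge (i : Fin 5) : GL (Fin 2 ⊕ Fin 2) F :=
  Classical.choose (fr.mono_mem (idx i).1 (idx i).2)

theorem ge_mem (i : Fin 5) : ge fr i ∈ R := (Classical.choose_spec (fr.mono_mem (idx i).1 (idx i).2)).1

theorem mt_ge (i : Fin 5) : mt (ge fr i) = gen fr i :=
  (Classical.choose_spec (fr.mono_mem (idx i).1 (idx i).2)).2

include D

theorem gen_anti {i j : Fin 5} (h : i ≠ j) : gen fr i * gen fr j = -(gen fr j * gen fr i) :=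
  eq_neg_of_add_eq_zero_left (by rw [gen_mul_add, if_neg h])

theorem gen_sq (i : Fin 5) : gen fr i * gen fr i = 1 := by
  have h := gen_mul_add fr i i
  rw [if_pos rfl, ← two_smul F] at h
  exact smul_right_injective _ D.two h

theorem ge_sq (i : Fin 5) : ge fr i * ge fr i = 1 :=
  mt_ext (by rw [mt_mul, mt_ge, mt_one]; exact gen_sq fr D i)

theorem ge_anti {i j : Fin 5} (h : i ≠ j) : ge fr i * ge fr j = -(ge fr j * ge fr i) :=
  mt_ext (by rw [mt_neg, mt_mul, mt_mul, mt_ge, mt_ge]; exact gen_anti fr D h)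

theorem gen_ne_smul {i j : Fin 5} (h : i ≠ j) (t : F) : gen fr i ≠ t • gen fr j := fun e => by
  have h1 := congrArg (crd fr) e
  rw [← clif_single fr D, ← clif_single fr D, map_smul, crd_clif fr D, crd_clif fr D] at h1
  simpa [h] using congrFun h1 i

theorem gen_trace (i : Fin 5) : (gen fr i).trace = 0 := by
  rw [← clif_single fr D]; exact trace_clif fr D _

omit D in
/-- The element permutes the five involutions as given, up to signs. -/
def Act (g : GL (Fin 2 ⊕ Fin 2) F) (π : Equiv.Perm (Fin 5)) : Prop :=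
  ∀ i, ∃ δ : F, (δ = 1 ∨ δ = -1) ∧ mt g * gen fr i = δ • (gen fr (π i) * mt g)

theorem act_one : Act fr 1 1 := fun i => ⟨1, Or.inl rfl, by simp⟩

theorem act_mul {g k : GL (Fin 2 ⊕ Fin 2) F} {π σ : Equiv.Perm (Fin 5)} (hg : Act fr g π) (hk : Act fr k σ) :
    Act fr (g * k) (π * σ) := fun i => by
  obtain ⟨δ, hδ, e⟩ := hk i
  obtain ⟨ε, hε, e'⟩ := hg (σ i)
  refine ⟨δ * ε, by rcases hδ with rfl | rfl <;> rcases hε with rfl | rfl <;> simp, ?_⟩
  rw [mt_mul]
  rw [mul_assoc, e, mul_smul_comm, ← mul_assoc, e', smul_mul_assoc, smul_smul, mul_assoc]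
  rfl

theorem act_unique {g : GL (Fin 2 ⊕ Fin 2) F} {π σ : Equiv.Perm (Fin 5)} (h : Act fr g π) (h' : Act fr g σ) :
    π = σ := Equiv.ext fun i => by
  by_contra hne
  obtain ⟨δ, hδ, e⟩ := h i
  obtain ⟨ε, hε, e'⟩ := h' i
  have h1 := congrArg (fun M => M * mt g⁻¹) (e.symm.trans e')
  simp only [smul_mul_assoc, mul_assoc, mul_inv_val, mul_one] at h1
  refine gen_ne_smul fr D hne (δ * ε) ?_
  rw [mul_smul, ← h1, smul_smul, show δ * δ = 1 by rcases hδ with rfl | rfl <;> simp, one_smul]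

theorem act_inv {g : GL (Fin 2 ⊕ Fin 2) F} {π : Equiv.Perm (Fin 5)} (hg : Act fr g π) : Act fr g⁻¹ π⁻¹ := fun i => by
  obtain ⟨δ, hδ, e⟩ := hg (π⁻¹ i)
  rw [show π (π⁻¹ i) = i from π.apply_symm_apply i] at e
  refine ⟨δ, hδ, ?_⟩
  have h1 := congrArg (fun M => mt g⁻¹ * M * mt g⁻¹) e
  simp only [mul_smul_comm, smul_mul_assoc] at h1
  rw [show mt g⁻¹ * (mt g * gen fr (π⁻¹ i)) * mt g⁻¹ = gen fr (π⁻¹ i) * mt g⁻¹ by
    rw [← mul_assoc (mt g⁻¹), inv_val_mul, one_mul], show mt g⁻¹ * (gen fr i * mt g) * mt g⁻¹ = mt g⁻¹ * gen fr i by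
    rw [mul_assoc, mul_assoc, mul_inv_val, mul_one]] at h1
  rw [h1, smul_smul, show δ * δ = 1 by rcases hδ with rfl | rfl <;> simp, one_smul]

theorem act_neg {g : GL (Fin 2 ⊕ Fin 2) F} {π : Equiv.Perm (Fin 5)} (hg : Act fr g π) : Act fr (-g) π := fun i => by
  obtain ⟨δ, hδ, e⟩ := hg i
  refine ⟨δ, hδ, ?_⟩
  rw [mt_neg]
  rw [neg_mul, mul_neg, smul_neg, e]

theorem act_mem {g : GL (Fin 2 ⊕ Fin 2) F} (hg : g ∈ R) : Act fr g 1 := fun i => by
  rcases D.sgn g hg (ge fr i) (ge_mem fr i) with h | h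
  · exact ⟨1, Or.inl rfl, by rw [one_smul, Equiv.Perm.one_apply, ← mt_ge]; exact cm h⟩
  · exact ⟨-1, Or.inr rfl, by rw [neg_one_smul, Equiv.Perm.one_apply, ← mt_ge]; exact h⟩

/-- The ordered product of the five involutions. -/
theorem prod_gen : ∃ c : F, c ≠ 0 ∧ ∀ σ : Equiv.Perm (Fin 5),
    gen fr (σ 0) * gen fr (σ 1) * gen fr (σ 2) * gen fr (σ 3) * gen fr (σ 4) =
      ((Equiv.Perm.sign σ : ℤ) : F) • c • 1 := by
  set c0 : ℤ := (fun a b : Fin 5 → Fin 4 => sg (-1) (a 0) (a 1) * sg 1 (b 0) (b 1) *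
      (sg (-1) (xr (a 0) (a 1)) (a 2) * sg 1 (xr (b 0) (b 1)) (b 2)) *
      (sg (-1) (xr (xr (a 0) (a 1)) (a 2)) (a 3) * sg 1 (xr (xr (b 0) (b 1)) (b 2)) (b 3)) *
      (sg (-1) (xr (xr (xr (a 0) (a 1)) (a 2)) (a 3)) (a 4) * sg 1 (xr (xr (xr (b 0) (b 1)) (b 2)) (b 3)) (b 4)))
    (fun i => (idx i).1) (fun i => (idx i).2) with hc0
  have hc : c0 = 1 ∨ c0 = -1 := by rw [hc0]; decide
  refine ⟨(c0 : F), by rcases hc with h | h <;> rw [h] <;> simp, fun σ => ?_⟩
  have key : ∀ σ : Equiv.Perm (Fin 5), let a := fun i => (idx (σ i)).1; let b := fun i => (idx (σ i)).2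
      xr (xr (xr (xr (a 0) (a 1)) (a 2)) (a 3)) (a 4) = 0 ∧ xr (xr (xr (xr (b 0) (b 1)) (b 2)) (b 3)) (b 4) = 0 ∧
      sg (-1) (a 0) (a 1) * sg 1 (b 0) (b 1) *
      (sg (-1) (xr (a 0) (a 1)) (a 2) * sg 1 (xr (b 0) (b 1)) (b 2)) *
      (sg (-1) (xr (xr (a 0) (a 1)) (a 2)) (a 3) * sg 1 (xr (xr (b 0) (b 1)) (b 2)) (b 3)) *
      (sg (-1) (xr (xr (xr (a 0) (a 1)) (a 2)) (a 3)) (a 4) * sg 1 (xr (xr (xr (b 0) (b 1)) (b 2)) (b 3)) (b 4)) =
      (Equiv.Perm.sign σ : ℤ) *
      ((fun a b : Fin 5 → Fin 4 => sg (-1) (a 0) (a 1) * sg 1 (b 0) (b 1) *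
      (sg (-1) (xr (a 0) (a 1)) (a 2) * sg 1 (xr (b 0) (b 1)) (b 2)) *
      (sg (-1) (xr (xr (a 0) (a 1)) (a 2)) (a 3) * sg 1 (xr (xr (b 0) (b 1)) (b 2)) (b 3)) *
      (sg (-1) (xr (xr (xr (a 0) (a 1)) (a 2)) (a 3)) (a 4) * sg 1 (xr (xr (xr (b 0) (b 1)) (b 2)) (b 3)) (b 4)))
      (fun i => (idx i).1) (fun i => (idx i).2)) := by decide +kernel
  obtain ⟨k1, k2, k3⟩ := key σ
  simp only [gen, fr.mono_mul, smul_mul_assoc, smul_smul]
  rw [k1, k2, mono_zero fr, ← Int.cast_smul_eq_zsmul F]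
  congr 1
  rw [← Int.cast_mul, hc0, ← k3]

/-- The product of the signs is the sign of the permutation. -/
theorem act_signs {g : GL (Fin 2 ⊕ Fin 2) F} {π : Equiv.Perm (Fin 5)} {δ : Fin 5 → F}
    (h : ∀ i, mt g * gen fr i = δ i • (gen fr (π i) * mt g)) :
    δ 0 * δ 1 * δ 2 * δ 3 * δ 4 * ((Equiv.Perm.sign π : ℤ) : F) = 1 := by
  obtain ⟨c, hc, hP⟩ := prod_gen fr D
  have e1 := hP 1
  have e2 := hP π
  simp only [Equiv.Perm.one_apply, map_one, Units.val_one, Int.cast_one, one_smul] at e1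
  have h1 : mt g * (gen fr 0 * gen fr 1 * gen fr 2 * gen fr 3 * gen fr 4) =
      (δ 0 * δ 1 * δ 2 * δ 3 * δ 4) •
        (gen fr (π 0) * gen fr (π 1) * gen fr (π 2) * gen fr (π 3) * gen fr (π 4) * mt g) := by
    simp only [← mul_assoc]
    rw [h, smul_mul_assoc, mul_assoc _ (mt g), h, mul_smul_comm, smul_smul, ← mul_assoc, smul_mul_assoc,
      mul_assoc _ (mt g), h, mul_smul_comm, smul_smul, ← mul_assoc, smul_mul_assoc, mul_assoc _ (mt g), h,
      mul_smul_comm, smul_smul, ← mul_assoc, smul_mul_assoc, mul_assoc _ (mt g), h, mul_smul_comm, smul_smul,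
      ← mul_assoc]
  rw [e1, e2, mul_smul_comm, mul_one, smul_smul, smul_mul_assoc, one_mul, smul_smul] at h1
  haveI : Nonempty (Fin 2 ⊕ Fin 2) := ⟨Sum.inl 0⟩
  have h2 := congrArg (fun M => M * mt g⁻¹) h1
  simp only [smul_mul_assoc, mul_inv_val] at h2
  have h3 := smul_one_inj h2
  have h4 : c * (δ 0 * δ 1 * δ 2 * δ 3 * δ 4 * ((Equiv.Perm.sign π : ℤ) : F)) = c * 1 := by
    rw [mul_one]; linear_combination -h3
  exact mul_left_cancel₀ hc h4

variable (hle : R ≤ spGL 2 F)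
include hle

theorem exists_act {g : GL (Fin 2 ⊕ Fin 2) F} (hg : g ∈ nor R) : ∃ π, Act fr g π := by
  have hm := (mem_normalizer_iff_mono fr D hle ⟨g, hg.2⟩).1 hg.1
  have key : ∀ i, ∃ j, ∃ δ : F, (δ = 1 ∨ δ = -1) ∧ mt g * gen fr i = δ • (gen fr j * mt g) := by
    intro i
    obtain ⟨j, hj⟩ := hm i
    have e : clif fr (app (phi fr D hle ⟨g, hg.2⟩) (Pi.single i 1)) = mt g * gen fr i * mt g⁻¹ := by
      rw [clif_phi, clif_single fr D]
    rcases hj with hj | hj
    · refine ⟨j, 1, Or.inl rfl, ?_⟩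
      rw [hj, clif_single fr D] at e
      rw [one_smul, e, mul_assoc _ (mt g⁻¹), inv_val_mul, mul_one]
    · refine ⟨j, -1, Or.inr rfl, ?_⟩
      rw [hj, map_neg, clif_single fr D] at e
      rw [neg_one_smul, ← neg_mul, e, mul_assoc _ (mt g⁻¹), inv_val_mul, mul_one]
  choose f hf using key
  have hinj : Function.Injective f := fun a b hab => by
    by_contra hne
    obtain ⟨δ, hδ, e⟩ := hf a
    obtain ⟨ε, hε, e'⟩ := hf b
    rw [hab] at e
    refine gen_ne_smul fr D hne (δ * ε) ?_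
    have h1 : mt g * gen fr a = mt g * ((δ * ε) • gen fr b) := by
      rw [mul_smul_comm, e', smul_smul, e, mul_assoc, show ε * ε = 1 by rcases hε with rfl | rfl <;> simp, mul_one]
    have h2 := congrArg (fun M => mt g⁻¹ * M) h1
    simpa only [← mul_assoc, inv_val_mul, one_mul] using h2
  exact ⟨Equiv.ofBijective f (Finite.injective_iff_bijective.1 hinj), hf⟩

theorem act_one_mem {g : GL (Fin 2 ⊕ Fin 2) F} (hgs : g ∈ spGL 2 F) (hg : Act fr g 1) :
    g ∈ R ∧ ∃ o : GL (Fin 2 ⊕ Fin 2) F, (o = 1 ∨ (∃ i, o = ge fr i) ∨ ∃ i j, i ≠ j ∧ o = ge fr i * ge fr j) ∧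
      (g = o ∨ g = -o) := by
  classical
  obtain ⟨eg, heg, hegv⟩ := exists_neg_one fr D
  choose δ hδ hgδ using hg
  have hs := act_signs fr D hgδ
  simp only [map_one, Units.val_one, Int.cast_one, mul_one] at hs
  set b : Fin 5 → Bool := fun i => decide (δ i = -1) with hb
  have hbv : ∀ i, δ i = if b i then (-1 : F) else 1 := fun i => by
    by_cases h : δ i = -1
    · simp [hb, h]
    · simp [hb, h, (hδ i).resolve_right h]
  have key : ∀ b : Fin 5 → Bool, ((b 0).xor ((b 1).xor ((b 2).xor ((b 3).xor (b 4))))) = true ∨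
      (∀ k, b k = false) ∨ (∃ i, ∀ k, b k = !decide (k = i)) ∨
      ∃ i j, i ≠ j ∧ ∀ k, b k = (decide (k = i) || decide (k = j)) := by decide +kernel
  have hne : (-1 : F) ≠ 1 := fun h => D.two (by rw [← one_add_one_eq_two]; nth_rw 1 [← h]; exact neg_add_cancel 1)
  obtain ⟨o, hoR, ho, hoc⟩ : ∃ o ∈ R, (o = 1 ∨ (∃ i, o = ge fr i) ∨ ∃ i j, i ≠ j ∧ o = ge fr i * ge fr j) ∧
      ∀ k, mt o * gen fr k = δ k • (gen fr k * mt o) := by
    rcases key b with h | h | ⟨i, h⟩ | ⟨i, j, hij, h⟩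
    · exfalso
      simp only [hbv] at hs
      revert h hs
      generalize b 0 = x; generalize b 1 = y; generalize b 2 = z; generalize b 3 = u; generalize b 4 = v
      cases x <;> cases y <;> cases z <;> cases u <;> cases v <;> simp [hne]
    · exact ⟨1, R.one_mem, Or.inl rfl, fun k => by rw [hbv, h]; simp⟩
    · refine ⟨ge fr i, ge_mem fr i, Or.inr (Or.inl ⟨i, rfl⟩), fun k => ?_⟩
      rw [hbv, h, mt_ge]
      by_cases hk : k = i
      · subst hk; simp
      · simp [hk, gen_anti fr D (Ne.symm hk)]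
    · refine ⟨ge fr i * ge fr j, R.mul_mem (ge_mem fr i) (ge_mem fr j), Or.inr (Or.inr ⟨i, j, hij, rfl⟩), fun k => ?_⟩
      rw [mt_mul]
      rw [hbv, h, mt_ge, mt_ge]
      by_cases hi : k = i
      · subst hi
        simp only [decide_true, Bool.true_or, if_true, neg_one_smul]
        rw [mul_assoc, gen_anti fr D (Ne.symm hij), mul_neg]
      · by_cases hj : k = j
        · subst hj
          simp only [hi, decide_false, decide_true, Bool.or_true, if_true, neg_one_smul]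
          rw [← mul_assoc (gen fr k), gen_anti fr D hi, neg_mul, neg_neg]
        · simp only [hi, hj, decide_false, Bool.or_false, Bool.false_eq_true, if_false, one_smul]
          rw [mul_assoc, gen_anti fr D (Ne.symm hj), mul_neg, ← mul_assoc, gen_anti fr D (Ne.symm hi), neg_mul,
            neg_neg, mul_assoc]
  have hk : ∀ i, mt (o⁻¹ * g) * gen fr i = gen fr i * mt (o⁻¹ * g) := fun i => by
    rw [mt_mul]
    have e := congrArg (fun M => mt o⁻¹ * M * mt o⁻¹) (hoc i)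
    simp only [mul_smul_comm, smul_mul_assoc] at e
    rw [show mt o⁻¹ * (mt o * gen fr i) * mt o⁻¹ = gen fr i * mt o⁻¹ by
      rw [← mul_assoc (mt o⁻¹), inv_val_mul, one_mul], show mt o⁻¹ * (gen fr i * mt o) * mt o⁻¹ = mt o⁻¹ * gen fr i by
      rw [mul_assoc, mul_assoc, mul_inv_val, mul_one]] at e
    rw [mul_assoc, hgδ i, Equiv.Perm.one_apply, mul_smul_comm, ← mul_assoc, ← smul_mul_assoc, ← e, mul_assoc]
  have hsp : o⁻¹ * g ∈ spGL 2 F := mul_mem (inv_mem (hle hoR)) hgs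
  have hphi : phi fr D hle ⟨o⁻¹ * g, hsp⟩ = 1 := ext_app fun v => by
    refine clif_inj fr D hle ?_
    rw [clif_phi, app_one]
    show mt (o⁻¹ * g) * clif fr v * mt (o⁻¹ * g)⁻¹ = clif fr v
    have hc : mt (o⁻¹ * g) * clif fr v = clif fr v * mt (o⁻¹ * g) := by
      simp only [clif, Fintype.linearCombination_apply, Finset.sum_mul, Finset.mul_sum, mul_smul_comm,
        smul_mul_assoc, hk]
    rw [hc, mul_assoc, mul_inv_val, mul_one]
  have hgo : g = o ∨ g = -o := by
    rcases phi_ker fr D hle hphi with e | e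
    · left
      have := mt_ext (g := o⁻¹ * g) (k := 1) e
      rwa [inv_mul_eq_one, eq_comm] at this
    · right
      have e' : o⁻¹ * g = -1 := mt_ext (e.trans (by rw [mt_neg, mt_one]))
      rw [inv_mul_eq_iff_eq_mul] at e'
      rw [e', mul_neg, mul_one]
  refine ⟨?_, o, ho, hgo⟩
  rcases hgo with rfl | rfl
  · exact hoR
  · have : -o = eg * o := mt_ext (by rw [mt_neg, mt_mul, hegv, neg_one_mul])
    rw [this]; exact R.mul_mem heg hoR

/-- An element realising a double transposition. -/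
theorem exists_double {a b c d : Fin 5} (hab : a ≠ b) (hcd : c ≠ d) :
    ∃ y ∈ nor R, Act fr y (Equiv.swap a b * Equiv.swap c d) := by
  have h := isFrame (F := F) D
  set bs : Fin 5 → Fin 5 → F := fun i => Pi.single i 1
  obtain ⟨y, -, hy⟩ := exists_pair fr D hle (v := bs a - bs b) (w := bs c - bs d) D.two
    (by rw [h.q_diff hab, h.q_diff hcd, mul_one])
  have hmono : Mono bs (phi fr D hle y) := by
    rw [hy]; exact CfsgLib.GeomClasses.Frame.mono_mul (h.mono_swap hab) (h.mono_swap hcd)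
  refine ⟨y, ⟨(mem_normalizer_iff_mono fr D hle y).2 hmono, y.2⟩, fun i => ⟨1, Or.inl rfl, ?_⟩⟩
  have hr : ∀ p q : Fin 5, p ≠ q → ∀ k, app (refl q5 (bs p - bs q)) (bs k) = bs (Equiv.swap p q k) := by
    intro p q hpq k
    rw [app_refl, h.q_diff hpq, polar_q5]
    funext l
    simp only [bs, Pi.sub_apply, Pi.smul_apply, smul_eq_mul, Equiv.swap_apply_def]
    have h2 := D.two
    split_ifs with h1 h1' <;> simp [Pi.single_apply, Finset.sum_sub_distrib, mul_sub, h1, hpq, Ne.symm hpq] <;>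
      (try subst_vars) <;> split_ifs <;> (try field_simp) <;> simp_all
  have e := clif_phi fr D hle y (bs i)
  rw [hy, app_mul, hr c d hcd, hr a b hab, clif_single fr D, clif_single fr D] at e
  rw [one_smul, Equiv.Perm.mul_apply, e, mul_assoc _ (mt _⁻¹), inv_val_mul, mul_one]

/-- The involutions of the normaliser. -/
theorem invol_cases {x : GL (Fin 2 ⊕ Fin 2) F} (hx : x ∈ nor R) (hxx : x * x = 1) :
    x = 1 ∨ x = -1 ∨ (∃ i, x = ge fr i ∨ x = -ge fr i) ∨
      ((mt x).trace = 0 ∧ ∃ a b, a ≠ b ∧ Act fr x (Equiv.swap a b)) := by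
  classical
  obtain ⟨π, hπ⟩ := exists_act fr D hle hx
  have hπ2 : π * π = 1 := act_unique fr D (hxx ▸ act_mul fr D hπ hπ) (act_one fr D)
  by_cases h1 : π = 1
  · subst h1
    obtain ⟨-, o, ho, hg⟩ := act_one_mem fr D hle hx.2 hπ
    rcases ho with rfl | ⟨i, rfl⟩ | ⟨i, j, hij, rfl⟩
    · rcases hg with e | e
      exacts [Or.inl e, Or.inr (Or.inl e)]
    · exact Or.inr (Or.inr (Or.inl ⟨i, hg⟩))
    · exfalso
      have hsq : ge fr i * ge fr j * (ge fr i * ge fr j) = -1 := by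
        calc _ = ge fr i * (ge fr j * ge fr i) * ge fr j := by group
          _ = -(ge fr i * ge fr i * (ge fr j * ge fr j)) := by
            rw [ge_anti fr D (Ne.symm hij), mul_neg, neg_mul, neg_inj]; group
          _ = -1 := by rw [ge_sq fr D, ge_sq fr D, one_mul]
      have hxm : x * x = -1 := by rcases hg with rfl | rfl <;> simpa using hsq
      rw [hxx] at hxm
      have := congrArg (fun g : GL (Fin 2 ⊕ Fin 2) F => mt g) hxm
      rw [show mt (1 : GL (Fin 2 ⊕ Fin 2) F) = 1 from rfl, show mt (-1 : GL (Fin 2 ⊕ Fin 2) F) = -1 from rfl] at this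
      have h2 := smul_one_inj (s := (1 : F)) (t := -1) (by rw [one_smul, neg_one_smul, ← this])
      exact D.two (by linear_combination h2)
  choose δ hδ hxδ using hπ
  have hd2 : ∀ i, δ i * δ (π i) = 1 := fun i => by
    have e := congrArg (fun M => mt x * M) (hxδ i)
    have hxx' : mt x * mt x = 1 := congrArg Units.val hxx
    simp only [← mul_assoc, hxx', one_mul, mul_smul_comm] at e
    rw [hxδ (π i), show π (π i) = i by rw [← Equiv.Perm.mul_apply, hπ2]; rfl, smul_mul_assoc, mul_assoc, hxx',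
      mul_one, smul_smul] at e
    have h1 := congrArg (crd fr) e
    rw [← clif_single fr D, map_smul, crd_clif fr D] at h1
    simpa [eq_comm] using congrFun h1 i
  have hs := act_signs fr D hxδ
  have key : ∀ π : Equiv.Perm (Fin 5), π * π = 1 → π = 1 ∨
      (∃ a b, a ≠ b ∧ π = Equiv.swap a b ∧ ∃ c d e, Equiv.swap a b c = c ∧ Equiv.swap a b d = d ∧
        Equiv.swap a b e = e ∧ c ≠ d ∧ c ≠ e ∧ d ≠ e ∧ (Equiv.Perm.sign π : ℤ) = -1) ∨
      (∃ a b c d e : Fin 5, a ≠ b ∧ c ≠ d ∧ π = Equiv.swap a b * Equiv.swap c d ∧ π e = e ∧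
        [a, b, c, d, e].Perm [0, 1, 2, 3, 4] ∧ (Equiv.Perm.sign π : ℤ) = 1) := by decide +kernel
  rcases key π hπ2 with h | ⟨a, b, hab, rfl, c, d, e, hc, hd, he, hcd, hce, hde, hsg⟩ |
      ⟨a, b, c, d, e, hab, hcd, rfl, he, hperm, hsg⟩
  · exact absurd h h1
  · refine Or.inr (Or.inr (Or.inr ⟨?_, a, b, hab, fun i => ⟨δ i, hδ i, hxδ i⟩⟩))
    have hneg : ∃ m, Equiv.swap a b m = m ∧ δ m = -1 := by
      by_contra hcon
      push Not at hcon
      have hp : ∀ m, Equiv.swap a b m = m → δ m = 1 := fun m hm => (hδ m).resolve_right (hcon m hm)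
      have hall : ∏ i, δ i = 1 := by
        rw [← Finset.prod_subset (s₁ := ({a, b} : Finset (Fin 5))) (by simp) fun m _ hm => ?_]
        · rw [Finset.prod_pair hab]; simpa using hd2 a
        · simp only [Finset.mem_insert, Finset.mem_singleton, not_or] at hm
          exact hp m (Equiv.swap_apply_of_ne_of_ne hm.1 hm.2)
      rw [hsg] at hs
      rw [Fin.prod_univ_five] at hall
      rw [hall] at hs
      exact D.two (by push_cast at hs; linear_combination -hs)
    obtain ⟨m, hm, hmδ⟩ := hneg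
    have e := hxδ m
    rw [hm, hmδ, neg_one_smul] at e
    have h2 : (mt x).trace = -(mt x).trace := by
      calc (mt x).trace = (mt x * gen fr m * gen fr m).trace := by rw [mul_assoc, gen_sq fr D, mul_one]
        _ = -(gen fr m * mt x * gen fr m).trace := by rw [e, neg_mul, Matrix.trace_neg]
        _ = _ := by rw [Matrix.trace_mul_cycle, gen_sq fr D, one_mul]
    exact (mul_eq_zero.1 (show (2 : F) * (mt x).trace = 0 by linear_combination h2)).resolve_left D.two
  · exfalso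
    have hπa : (Equiv.swap a b * Equiv.swap c d) a = b ∧ (Equiv.swap a b * Equiv.swap c d) c = d := by
      have := hperm.nodup_iff.2 (by decide)
      simp at this
      constructor <;>
        simp [Equiv.Perm.mul_apply, Equiv.swap_apply_def, this, hab, Ne.symm hab, hcd, Ne.symm hcd] <;> aesop
    have hall : ∏ i, δ i = δ a * δ b * δ c * δ d * δ e := by
      have h5 := (hperm.map δ).prod_eq
      simp [Fin.prod_univ_five, mul_assoc] at h5 ⊢
      exact h5.symm
    rw [hsg, Int.cast_one, mul_one, ← Fin.prod_univ_five, hall] at hs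
    have h12 := hd2 a
    have h34 := hd2 c
    rw [hπa.1] at h12
    rw [hπa.2] at h34
    have he1 : δ e = 1 := by linear_combination hs - δ e * δ c * δ d * h12 - δ e * h34
    set bs : Fin 5 → Fin 5 → F := fun i => Pi.single i 1
    have h := isFrame (F := F) D
    have hq : ∀ (p q : Fin 5) (t : F), p ≠ q → (t = 1 ∨ t = -1) → q5 (bs p - t • bs q) = 2 := by
      intro p q t hpq ht
      rw [q5_apply]
      simp [bs, Pi.single_apply, mul_sub, sub_mul, Finset.sum_sub_distrib, hpq, Ne.symm hpq]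
      rcases ht with rfl | rfl <;> norm_num
    obtain ⟨y, hyv, hy⟩ := exists_pair fr D hle (v := bs a - δ a • bs b) (w := bs c - δ c • bs d) D.two
      (by rw [hq a b _ hab (hδ a), hq c d _ hcd (hδ c)])
    have hnd := hperm.nodup_iff.2 (by decide)
    simp at hnd
    have hphi : phi fr D hle (⟨x, hx.2⟩⁻¹ * y) = 1 := by
      rw [map_mul, map_inv, inv_mul_eq_one]
      refine ext_app fun v => ?_
      have hlin : ∀ k, app (phi fr D hle ⟨x, hx.2⟩) (bs k) = app (phi fr D hle y) (bs k) := by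
        intro k
        refine clif_inj fr D hle ?_
        rw [clif_phi, clif_single fr D, hxδ k, smul_mul_assoc, mul_assoc, mul_inv_val, mul_one, hy, app_mul, app_refl,
          app_refl, hq c d _ hcd (hδ c), hq a b _ hab (hδ a), polar_q5, polar_q5]
        have hk : k ∈ [a, b, c, d, e] := hperm.mem_iff.2 (by fin_cases k <;> decide)
        simp at hk
        have hbd : δ b = δ a := by rcases hδ a with ha | ha <;> rw [ha] at h12 ⊢ <;> first | linear_combination h12 | linear_combination -h12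
        have hdd : δ d = δ c := by rcases hδ c with ha | ha <;> rw [ha] at h34 ⊢ <;> first | linear_combination h34 | linear_combination -h34
        have h2 := D.two
        have haa : δ a * δ a = 1 := by rw [← h12, hbd]
        have hcc : δ c * δ c = 1 := by rw [← h34, hdd]
        rcases hk with rfl | rfl | rfl | rfl | rfl <;>
          simp [bs, Pi.single_apply, mul_sub, sub_mul, Finset.sum_sub_distrib, clif, Fintype.linearCombination_apply_single,
            map_sub, map_add, map_smul, hbd, hdd, he1, haa, hcc, hnd, Ne.symm, Equiv.swap_apply_def, smul_smul] <;>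
          match_scalars <;> field_simp <;> first | ring1 | linear_combination haa | linear_combination -haa | linear_combination hcc | linear_combination -hcc
      rw [show v = ∑ k, v k • bs k by simp [bs, ← Pi.single_smul, Finset.univ_sum_single]]
      simp only [map_sum, map_smul, hlin]
    have hyy : mt (y : GL (Fin 2 ⊕ Fin 2) F) * mt (y : GL (Fin 2 ⊕ Fin 2) F) = -1 := by
      have hs := clif_mul_add fr (bs a - δ a • bs b) (bs c - δ c • bs d)
      rw [polar_q5] at hs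
      rw [show (2 : F) * ∑ i, (bs a - δ a • bs b) i * (bs c - δ c • bs d) i = 0 by
        simp [bs, Pi.single_apply, mul_sub, sub_mul, Finset.sum_sub_distrib, hnd, Ne.symm], zero_smul] at hs
      set V := clif fr (bs a - δ a • bs b)
      set W := clif fr (bs c - δ c • bs d)
      have hV : V * V = (2 : F) • 1 := by rw [clif_sq fr D, hq a b _ hab (hδ a)]
      have hW : W * W = (2 : F) • 1 := by rw [clif_sq fr D, hq c d _ hcd (hδ c)]
      have hWV : W * V = -(V * W) := eq_neg_of_add_eq_zero_right hs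
      rw [hyv, smul_mul_smul_comm, mul_assoc, ← mul_assoc W, hWV, neg_mul, mul_neg, mul_assoc, hW, mul_smul_comm,
        mul_one, mul_smul_comm, hV, smul_neg, smul_smul, smul_smul]
      rw [show (2 : F)⁻¹ * 2⁻¹ * 2 * 2 = 1 by field_simp [D.two], one_smul]
    have hxy : mt x * mt x = -1 := by
      rcases phi_ker fr D hle hphi with e1 | e1 <;>
      · have e2 : mt (y : GL (Fin 2 ⊕ Fin 2) F) = mt x * mt (x⁻¹ * (y : GL (Fin 2 ⊕ Fin 2) F)) := by
          rw [← Units.val_mul, mul_inv_cancel_left]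
        rw [show mt (x⁻¹ * (y : GL (Fin 2 ⊕ Fin 2) F)) = _ from e1] at e2
        simpa [e2] using hyy
    rw [show mt x * mt x = 1 from congrArg Units.val hxx] at hxy
    have h2 := smul_one_inj (s := (1 : F)) (t := -1) (by rw [one_smul, neg_one_smul, ← hxy])
    exact D.two (by linear_combination h2)

include fr in
/-- An element squaring to minus one commuting with an involution. -/
theorem exists_quarter {x : GL (Fin 2 ⊕ Fin 2) F} (hx : x ∈ nor R) (hxx : x * x = 1) :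
    ∃ q ∈ R, q * q = -1 ∧ x * q = q * x := by
  have hsq : ∀ i j, i ≠ j → ge fr i * ge fr j * (ge fr i * ge fr j) = -1 := fun i j hij => by
    calc _ = ge fr i * (ge fr j * ge fr i) * ge fr j := by group
      _ = -(ge fr i * ge fr i * (ge fr j * ge fr j)) := by
        rw [ge_anti fr D (Ne.symm hij), mul_neg, neg_mul, neg_inj]; group
      _ = -1 := by rw [ge_sq fr D, ge_sq fr D, one_mul]
  rcases invol_cases fr D hle hx hxx with rfl | rfl | ⟨i, hi⟩ | ⟨-, a, b, hab, hact⟩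
  · exact ⟨_, R.mul_mem (ge_mem fr 0) (ge_mem fr 1), hsq 0 1 (by decide), by simp⟩
  · exact ⟨_, R.mul_mem (ge_mem fr 0) (ge_mem fr 1), hsq 0 1 (by decide), by simp⟩
  · obtain ⟨j, k, hj, hk, hjk⟩ : ∃ j k, j ≠ i ∧ k ≠ i ∧ j ≠ k :=
      (by decide : ∀ i : Fin 5, ∃ j k, j ≠ i ∧ k ≠ i ∧ j ≠ k) i
    refine ⟨_, R.mul_mem (ge_mem fr j) (ge_mem fr k), hsq j k hjk, ?_⟩
    have e : ge fr i * (ge fr j * ge fr k) = ge fr j * ge fr k * ge fr i := by
      rw [← mul_assoc, ge_anti fr D (Ne.symm hj), neg_mul, mul_assoc, ge_anti fr D (Ne.symm hk), mul_neg, neg_neg,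
        mul_assoc]
    rcases hi with rfl | rfl
    · exact e
    · rw [neg_mul, mul_neg, e]
  · obtain ⟨c, d, e, hc, hd, he, hcd, hce, hde⟩ : ∃ c d e, Equiv.swap a b c = c ∧ Equiv.swap a b d = d ∧
        Equiv.swap a b e = e ∧ c ≠ d ∧ c ≠ e ∧ d ≠ e :=
      (by decide +kernel : ∀ a b : Fin 5, a ≠ b → ∃ c d e, Equiv.swap a b c = c ∧ Equiv.swap a b d = d ∧
        Equiv.swap a b e = e ∧ c ≠ d ∧ c ≠ e ∧ d ≠ e) a b hab
    choose δ hδ hxδ using hact
    have pick : ∀ u v, u ≠ v → Equiv.swap a b u = u → Equiv.swap a b v = v → δ u = δ v →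
        ∃ q ∈ R, q * q = -1 ∧ x * q = q * x := by
      intro u v huv hu hv huve
      refine ⟨_, R.mul_mem (ge_mem fr u) (ge_mem fr v), hsq u v huv, mt_ext ?_⟩
      simp only [mt_mul, mt_ge]
      rw [← mul_assoc, hxδ u, hu, smul_mul_assoc, mul_assoc, hxδ v, hv, mul_smul_comm, smul_smul,
        ← huve, show δ u * δ u = 1 by rcases hδ u with h | h <;> rw [h] <;> simp, one_smul, mul_assoc]
    rcases hδ c with h1 | h1 <;> rcases hδ d with h2 | h2 <;> rcases hδ e with h3 | h3 <;>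
      first
      | exact pick c d hcd hc hd (h1.trans h2.symm)
      | exact pick c e hce hc he (h1.trans h3.symm)
      | exact pick d e hde hd he (h2.trans h3.symm)

omit D hle in
/-- The permutations reached from a non-trivial one by commutators with double transpositions. -/
theorem perm_three : ∀ π : Equiv.Perm (Fin 5), π ≠ 1 →
    let dbl : Fin 5 → Fin 3 → Equiv.Perm (Fin 5) := fun m k =>
      ![Equiv.swap (m + 1) (m + 2) * Equiv.swap (m + 3) (m + 4), Equiv.swap (m + 1) (m + 3) * Equiv.swap (m + 2) (m + 4),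
        Equiv.swap (m + 1) (m + 4) * Equiv.swap (m + 2) (m + 3)] k
    let com := fun a d : Equiv.Perm (Fin 5) => a * d * a⁻¹ * d⁻¹
    π * π * π = 1 ∨ ∃ m k, (com π (dbl m k) ≠ 1 ∧ com π (dbl m k) * com π (dbl m k) * com π (dbl m k) = 1) ∨
      ∃ m' k', com (com π (dbl m k)) (dbl m' k') ≠ 1 ∧
        com (com π (dbl m k)) (dbl m' k') * com (com π (dbl m k)) (dbl m' k') * com (com π (dbl m k)) (dbl m' k') = 1 := by
  decide +kernel

include fr D hle in
/-- A normalised subgroup leaving the group has an element acting as a three-cycle and fixing an involution. -/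
theorem exists_three {B : Subgroup (GL (Fin 2 ⊕ Fin 2) F)} (hB : B ≤ nor R)
    (hn : ∀ n ∈ nor R, ∀ b ∈ B, n * b * n⁻¹ ∈ B) {b : GL (Fin 2 ⊕ Fin 2) F} (hb : b ∈ B) (hbR : b ∉ R) :
    ∃ c ∈ B, ∃ π, Act fr c π ∧ ∃ m j, j ≠ m ∧ π m = m ∧ π j ≠ j ∧ π (π j) ≠ j ∧
      mt c * gen fr m = gen fr m * mt c := by
  obtain ⟨π, hπ⟩ := exists_act fr D hle (hB hb)
  have hπ1 : π ≠ 1 := fun h => hbR (act_one_mem fr D hle (hB hb).2 (h ▸ hπ)).1
  have com : ∀ c ∈ B, ∀ σ, Act fr c σ → ∀ a a' e e' : Fin 5, a ≠ a' → e ≠ e' → ∃ c' ∈ B,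
      Act fr c' (σ * (Equiv.swap a a' * Equiv.swap e e') * σ⁻¹ * (Equiv.swap a a' * Equiv.swap e e')⁻¹) := by
    intro c hc σ hσ a a' e e' haa hee
    obtain ⟨y, hy, hya⟩ := exists_double fr D hle haa hee
    refine ⟨c * y * c⁻¹ * y⁻¹, ?_, act_mul fr D (act_mul fr D (act_mul fr D hσ hya) (act_inv fr D hσ)) (act_inv fr D hya)⟩
    rw [mul_assoc c y, mul_assoc c]
    exact B.mul_mem hc (hn y hy _ (B.inv_mem hc))
  obtain ⟨c, hc, σ, hσ, hσ1, hσ3⟩ : ∃ c ∈ B, ∃ σ, Act fr c σ ∧ σ ≠ 1 ∧ σ * σ * σ = 1 := by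
    have hne : ∀ m : Fin 5, m + 1 ≠ m + 2 ∧ m + 3 ≠ m + 4 ∧ m + 1 ≠ m + 3 ∧ m + 2 ≠ m + 4 ∧ m + 1 ≠ m + 4 ∧
        m + 2 ≠ m + 3 := by decide
    have step : ∀ c ∈ B, ∀ σ, Act fr c σ → ∀ (m : Fin 5) (k : Fin 3), ∃ c' ∈ B, Act fr c' (σ *
        (![Equiv.swap (m + 1) (m + 2) * Equiv.swap (m + 3) (m + 4), Equiv.swap (m + 1) (m + 3) * Equiv.swap (m + 2) (m + 4),
          Equiv.swap (m + 1) (m + 4) * Equiv.swap (m + 2) (m + 3)] k) * σ⁻¹ *
        (![Equiv.swap (m + 1) (m + 2) * Equiv.swap (m + 3) (m + 4), Equiv.swap (m + 1) (m + 3) * Equiv.swap (m + 2) (m + 4),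
          Equiv.swap (m + 1) (m + 4) * Equiv.swap (m + 2) (m + 3)] k)⁻¹) := by
      intro c hc σ hσ m k
      obtain ⟨h1, h2, h3, h4, h5, h6⟩ := hne m
      fin_cases k
      exacts [com c hc σ hσ _ _ _ _ h1 h2, com c hc σ hσ _ _ _ _ h3 h4, com c hc σ hσ _ _ _ _ h5 h6]
    rcases perm_three π hπ1 with h | ⟨m, k, ⟨h, h'⟩ | ⟨m', k', h, h'⟩⟩
    · exact ⟨b, hb, π, hπ, hπ1, h⟩
    · obtain ⟨c, hc, hca⟩ := step b hb π hπ m k
      exact ⟨c, hc, _, hca, h, h'⟩
    · obtain ⟨c, hc, hca⟩ := step b hb π hπ m k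
      obtain ⟨c', hc', hca'⟩ := step c hc _ hca m' k'
      exact ⟨c', hc', _, hca', h, h'⟩
  obtain ⟨m, j, hjm, hm, hj, hj2⟩ := (by decide +kernel : ∀ σ : Equiv.Perm (Fin 5), σ ≠ 1 → σ * σ * σ = 1 →
    ∃ m j, j ≠ m ∧ σ m = m ∧ (σ * σ) j ≠ j ∧ (σ * σ) ((σ * σ) j) ≠ j) σ hσ1 hσ3
  obtain ⟨δ, hδ, e⟩ := hσ m
  rw [hm] at e
  refine ⟨c * c, B.mul_mem hc hc, σ * σ, act_mul fr D hσ hσ, m, j, hjm, by simp [hm], hj, hj2, ?_⟩
  rw [mt_mul, mul_assoc, e, mul_smul_comm, ← mul_assoc, e, smul_mul_assoc, smul_smul,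
    show δ * δ = 1 by rcases hδ with rfl | rfl <;> simp, one_smul, mul_assoc]

end CfsgLib.ExtraSpEight
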