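import Cfsg.Agent.Lib.ExtraSpEight.Blocks

/-!
Conjugates of the diagonal involution commuting with it, and pairs consisting of the diagonal involution and a
conjugate of a plane involution.
-/

set_option autoImplicit false
set_option linter.unusedSectionVars false
set_option linter.unusedSimpArgs false

namespace CfsgLib.ExtraSpEight

open Matrix Cfsg CfsgLib.Sp4Odd CfsgLib.PrimeElusive.SymplType

open scoped MatrixGroups

variable {F : Type*} [Field F] {R : Subgroup (GL I4 F)}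
  (fr : PrimeElusive.SymplType.Frame R) (D : Data R 2) (hle : R ≤ spGL 2 F) {Q : Subgroup (G8 F)}
  (hQ : Model R Q)

theorem trace_bd (a b : GL I4 F) : (mt (bd a b)).trace = (mt a).trace + (mt b).trace := by
  simp [mt_bd, Matrix.trace, Fintype.sum_sum_type]

theorem trace_conj (g x : G8 F) : (mt (g * x * g⁻¹)).trace = (mt x).trace := by
  show (mt g * mt x * mt g⁻¹).trace = _
  rw [Matrix.trace_mul_cycle, ← Units.val_mul, inv_mul_cancel, Units.val_one, one_mul]

/-- The plane involution. -/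
noncomputable def u4 : G8 F := bd 1 (ge fr 0)

/-- A signed generating involution. -/
def Sgn (o : GL I4 F) (i : Fin 5) : Prop := o = ge fr i ∨ o = -ge fr i

section basic

include fr D

theorem Sgn.sq {o : GL I4 F} {i : Fin 5} (h : Sgn fr o i) : o * o = 1 := by
  rcases h with rfl | rfl <;> simp [ge_sq fr D]

theorem Sgn.mem {o : GL I4 F} {i : Fin 5} (h : Sgn fr o i) : o ∈ R := by
  rcases h with rfl | rfl
  exacts [ge_mem fr i, neg_mem_R fr D (ge_mem fr i)]

omit D in
theorem Sgn.neg {o : GL I4 F} {i : Fin 5} (h : Sgn fr o i) : Sgn fr (-o) i := by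
  rcases h with rfl | rfl
  exacts [Or.inr rfl, Or.inl (neg_neg _)]

theorem Sgn.trace {o : GL I4 F} {i : Fin 5} (h : Sgn fr o i) : (mt o).trace = 0 := by
  rcases h with rfl | rfl <;> simp [mt_neg, mt_ge, gen_trace fr D]

theorem trace_one4 : (mt (1 : GL I4 F)).trace = 4 := by rw [mt_one]; exact D.trace_one

theorem trace_neg_one4 : (mt (-1 : GL I4 F)).trace = -4 := by
  rw [mt_neg, Matrix.trace_neg, trace_one4 fr D]

theorem eight_ne : (8 : F) ≠ 0 := by
  rw [show (8 : F) = 2 * 4 by norm_num]; exact mul_ne_zero D.two D.four_ne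

theorem ne_neg_self (o : GL I4 F) : o ≠ -o := fun h => by
  have h1 : mt o = -mt o := congrArg Units.val h
  have h2 : (2 : F) • mt o = 0 := by rw [two_smul]; nth_rw 2 [h1]; exact add_neg_cancel _
  exact o.ne_zero ((smul_eq_zero.1 h2).resolve_left D.two)

theorem Sgn.eq {o : GL I4 F} {i k : Fin 5} (h : Sgn fr o i) (h' : Sgn fr o k) : i = k := by
  by_contra hne
  rcases h with rfl | rfl <;> rcases h' with h' | h' <;>
    have h1 := congrArg (fun g : GL I4 F => mt g) h' <;> simp only [mt_neg, mt_ge] at h1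
  · exact gen_ne_smul fr D hne 1 (by rw [one_smul]; exact h1)
  · exact gen_ne_smul fr D hne (-1) (by rw [neg_one_smul]; exact h1)
  · exact gen_ne_smul fr D hne (-1) (by rw [neg_one_smul, ← h1, neg_neg])
  · exact gen_ne_smul fr D hne 1 (by rw [one_smul]; exact neg_inj.1 h1)

/-- Commuting signed involutions have equal index. -/
theorem Sgn.comm {o o' : GL I4 F} {i k : Fin 5} (h : Sgn fr o i) (h' : Sgn fr o' k) (hc : o * o' = o' * o) : i = k := by
  by_contra hne
  have e : o * o' = -(o' * o) := by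
    rcases h with rfl | rfl <;> rcases h' with rfl | rfl <;> simp [ge_anti fr D hne]
  exact ne_neg_self fr D _ (hc.symm.trans e)

theorem act_conj {g : GL I4 F} {π : Equiv.Perm (Fin 5)} (hg : Act fr g π) (i : Fin 5) :
    Sgn fr (g * ge fr i * g⁻¹) (π i) := by
  obtain ⟨δ, hδ, e⟩ := hg i
  rcases hδ with rfl | rfl
  · left
    rw [mul_inv_eq_iff_eq_mul]
    exact mt_ext (by rw [mt_mul, mt_mul, mt_ge, mt_ge, e, one_smul])
  · right
    rw [mul_inv_eq_iff_eq_mul]
    exact mt_ext (by rw [mt_mul, mt_mul, mt_neg, mt_ge, mt_ge, e, neg_one_smul, neg_mul])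

theorem u4_sq : u4 fr * u4 fr = 1 := by rw [u4, bd_mul, mul_one, ge_sq fr D, bd_one]

theorem trace_u4 : (mt (u4 fr)).trace = 4 := by
  rw [u4, trace_bd, trace_one4 fr D, mt_ge, gen_trace fr D, add_zero]

omit fr D in
theorem r0_sq : (r0 : G8 F) * r0 = 1 := by rw [r0, bd_mul, one_mul, neg_mul_neg, one_mul, bd_one]

theorem trace_r0 : (mt (r0 : G8 F)).trace = 0 := by
  rw [r0, trace_bd, trace_one4 fr D, trace_neg_one4 fr D, add_neg_cancel]

end basic

/-- The conjugates of the diagonal involution under the normaliser. -/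
def Sing (Q : Subgroup (G8 F)) (t : G8 F) : Prop := ∃ n ∈ N8 Q, t = n * r0 * n⁻¹

/-- The conjugates of the plane involution under the normaliser. -/
def Plane (Q : Subgroup (G8 F)) (v : G8 F) : Prop := ∃ n ∈ N8 Q, v = n * u4 fr * n⁻¹

include fr D hle hQ

theorem sing_conj {n t : G8 F} (hn : n ∈ N8 Q) (ht : Sing Q t) : Sing Q (n * t * n⁻¹) := by
  obtain ⟨n', hn', rfl⟩ := ht
  exact ⟨n * n', mul_mem hn hn', by group⟩

theorem plane_conj {n v : G8 F} (hn : n ∈ N8 Q) (hv : Plane fr Q v) : Plane fr Q (n * v * n⁻¹) := by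
  obtain ⟨n', hn', rfl⟩ := hv
  exact ⟨n * n', mul_mem hn hn', by group⟩

variable [Finite F]

theorem plane_mem {v : G8 F} (hv : Plane fr Q v) : v ∈ N8 Q := by
  obtain ⟨n, hn, rfl⟩ := hv
  exact mul_mem (mul_mem hn (bd_one_mem fr D hle hQ (ge_mem fr 0))) (inv_mem hn)

theorem sing_r0_neg : Sing Q (-(r0 : G8 F)) :=
  ⟨sw, sw_mem_N8 fr D hle hQ, by rw [sw_inv, r0, sw_bd, bd_neg, neg_neg]⟩

theorem sing_diag {o : GL I4 F} {i : Fin 5} (ho : Sgn fr o i) : Sing Q (bd o o) ∧ Sing Q (bd o (-o)) := by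
  obtain ⟨j, hj⟩ : ∃ j, j ≠ i := exists_ne i
  have base : Sing Q (bd (-ge fr i) (ge fr i)) :=
    ⟨n13 fr D i, n13_mem fr D hle hQ i, by rw [n13_inv, n13_r0 fr D hle hQ]⟩
  have hc : ∀ o : GL I4 F, Sgn fr o i → ge fr j * o * (ge fr j)⁻¹ = -o := fun o ho => by
    rw [mul_inv_eq_iff_eq_mul]
    rcases ho with rfl | rfl <;> simp [ge_anti fr D hj]
  have flipL : ∀ a b, Sgn fr a i → Sing Q (bd a b) → Sing Q (bd (-a) b) := fun a b ha h => by
    have := sing_conj fr D hle hQ (bd_left_mem fr D hle hQ (ge_mem fr j)) h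
    rwa [bd_inv, inv_one, bd_mul, bd_mul, mul_one, one_mul, hc a ha] at this
  have flipR : ∀ a b, Sgn fr b i → Sing Q (bd a b) → Sing Q (bd a (-b)) := fun a b hb h => by
    have := sing_conj fr D hle hQ (bd_one_mem fr D hle hQ (ge_mem fr j)) h
    rwa [bd_inv, inv_one, bd_mul, bd_mul, mul_one, one_mul, hc b hb] at this
  have hpp : Sing Q (bd (ge fr i) (ge fr i)) := by simpa using flipL _ _ (Or.inr rfl) base
  rcases ho with rfl | rfl
  · exact ⟨hpp, flipR _ _ (Or.inl rfl) hpp⟩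
  · refine ⟨flipR _ _ (Or.inl rfl) base, ?_⟩
    rw [neg_neg]; exact base

theorem plane_side {o : GL I4 F} {i : Fin 5} (ho : Sgn fr o i) :
    Plane fr Q (bd 1 o) ∧ Plane fr Q (bd o 1) := by
  have h0 : ∃ o', Sgn fr o' i ∧ Plane fr Q (bd 1 o') := by
    by_cases hi : i = 0
    · subst hi; exact ⟨ge fr 0, Or.inl rfl, 1, one_mem _, by rw [one_mul, inv_one, mul_one]; rfl⟩
    · obtain ⟨j, k, hjk, hj, hk, hji, hki⟩ :=
        (by decide : ∀ i : Fin 5, ∃ j k, j ≠ k ∧ j ≠ 0 ∧ k ≠ 0 ∧ j ≠ i ∧ k ≠ i) i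
      obtain ⟨g, hg, hga⟩ := exists_double fr D hle (Ne.symm hi) hjk
      have hs := act_conj fr D hga 0
      rw [Equiv.Perm.mul_apply, Equiv.swap_apply_of_ne_of_ne (Ne.symm hj) (Ne.symm hk), Equiv.swap_apply_left] at hs
      refine ⟨_, hs, bd g g, bd_diag_N8 fr D hle hQ hg, ?_⟩
      rw [u4, bd_inv, bd_mul, bd_mul, mul_one, mul_inv_cancel]
  obtain ⟨o', ho', hp⟩ := h0
  obtain ⟨j, hj⟩ : ∃ j, j ≠ i := exists_ne i
  have hpm : Plane fr Q (bd 1 o) := by
    have hor : o = o' ∨ o = -o' := by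
      rcases ho with rfl | rfl <;> rcases ho' with rfl | rfl <;> simp
    rcases hor with rfl | rfl
    · exact hp
    · have := plane_conj fr D hle hQ (bd_one_mem fr D hle hQ (ge_mem fr j)) hp
      rwa [bd_inv, inv_one, bd_mul, bd_mul, mul_one, one_mul,
        show ge fr j * o' * (ge fr j)⁻¹ = -o' by
          rw [mul_inv_eq_iff_eq_mul]; rcases ho' with rfl | rfl <;> simp [ge_anti fr D hj]] at this
  refine ⟨hpm, ?_⟩
  have := plane_conj fr D hle hQ (sw_mem_N8 fr D hle hQ) hpm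
  rwa [sw_inv, sw_bd] at this

/-- The involutions of the group in four dimensions. -/
theorem invol_R {x : GL I4 F} (hx : x ∈ R) (hxx : x * x = 1) : x = 1 ∨ x = -1 ∨ ∃ i, Sgn fr x i := by
  rcases invol_cases fr D hle ⟨Subgroup.le_normalizer hx, hle hx⟩ hxx with h | h | h | ⟨-, a, b, hab, h⟩
  · exact Or.inl h
  · exact Or.inr (Or.inl h)
  · exact Or.inr (Or.inr h)
  · exact absurd (act_unique fr D h (act_mem fr D hx)) (fun e => hab (by simpa using congrArg (fun π => π a) e.symm))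

/-- Traces of the involutions of the normaliser in four dimensions. -/
theorem invol_trace {x : GL I4 F} (hx : x ∈ nor R) (hxx : x * x = 1) : x = 1 ∨ x = -1 ∨ (mt x).trace = 0 := by
  rcases invol_cases fr D hle hx hxx with h | h | ⟨i, h⟩ | ⟨h, -⟩
  exacts [Or.inl h, Or.inr (Or.inl h), Or.inr (Or.inr (Sgn.trace fr D (i := i) h)), Or.inr (Or.inr h)]

/-- Block diagonal involutions of trace four. -/
theorem side_of_trace {v : G8 F} (hv : v ∈ N8 Q) (hc : v * r0 = r0 * v) (hvv : v * v = 1)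
    (ht : (mt v).trace = 4) (hne : v ≠ -1) : ∃ o i, Sgn fr o i ∧ (v = bd 1 o ∨ v = bd o 1) := by
  obtain ⟨x, y, rfl⟩ := exists_bd D.two hc
  obtain ⟨hx, hy, hxy⟩ := of_bd_mem_N8 fr D hle hQ hv
  rw [bd_mul, ← bd_one] at hvv
  obtain ⟨hxx, hyy⟩ := bd_inj hvv
  rw [trace_bd] at ht
  have t1 := trace_one4 fr D
  have t2 := trace_neg_one4 fr D
  have hm1 := neg_one_mem fr D
  -- one block scalar forces the other into the group
  have key : ∀ y : GL I4 F, y ∈ R → y * y = 1 → y = 1 ∨ y = -1 ∨ ∃ i, Sgn fr y i :=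
    fun y hy hyy => invol_R fr D hle hQ hy hyy
  have case1 : ∀ (x y : GL I4 F), (x = 1 ∨ x = -1) → x⁻¹ * y ∈ R → y * y = 1 →
      (mt x).trace + (mt y).trace = 4 → (∃ o i, Sgn fr o i ∧ x = 1 ∧ y = o) ∨ (x = -1 ∧ y = -1) := by
    intro x y hx hxy hyy ht
    have hyR : y ∈ R := by
      rcases hx with rfl | rfl
      · simpa using hxy
      · have := R.mul_mem hm1 hxy
        simpa using this
    have h2 := D.two
    rcases key y hyR hyy with rfl | rfl | ⟨i, hi⟩ <;> rcases hx with rfl | rfl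
    · rw [t1] at ht; exact absurd (by linear_combination ht) D.four_ne
    · rw [t1, t2] at ht; exact absurd (by linear_combination -ht) D.four_ne
    · rw [t1, t2] at ht; exact absurd (by linear_combination -ht) D.four_ne
    · exact Or.inr ⟨rfl, rfl⟩
    · exact Or.inl ⟨y, i, hi, rfl, rfl⟩
    · rw [t2, Sgn.trace fr D hi] at ht; exact absurd (by linear_combination -ht) (eight_ne fr D)
  have hyx : y⁻¹ * x ∈ R := by have := R.inv_mem hxy; simpa using this
  have fin1 : (∃ o i, Sgn fr o i ∧ x = 1 ∧ y = o) ∨ (x = -1 ∧ y = -1) →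
      ∃ o i, Sgn fr o i ∧ (bd x y = bd 1 o ∨ bd x y = bd o 1) := by
    rintro (⟨o, i, ho, h1, h2⟩ | ⟨h1, h2⟩)
    · exact ⟨o, i, ho, Or.inl (by rw [h1, h2])⟩
    · exact absurd (by rw [h1, h2, ← bd_neg, bd_one]) hne
  have fin2 : (∃ o i, Sgn fr o i ∧ y = 1 ∧ x = o) ∨ (y = -1 ∧ x = -1) →
      ∃ o i, Sgn fr o i ∧ (bd x y = bd 1 o ∨ bd x y = bd o 1) := by
    rintro (⟨o, i, ho, h1, h2⟩ | ⟨h1, h2⟩)
    · exact ⟨o, i, ho, Or.inr (by rw [h1, h2])⟩
    · exact absurd (by rw [h1, h2, ← bd_neg, bd_one]) hne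
  rcases invol_trace fr D hle hQ hx hxx with h | h | htx
  · exact fin1 (case1 x y (Or.inl h) hxy hyy ht)
  · exact fin1 (case1 x y (Or.inr h) hxy hyy ht)
  rcases invol_trace fr D hle hQ hy hyy with h | h | hty
  · exact fin2 (case1 y x (Or.inl h) hyx hxx (by linear_combination ht))
  · exact fin2 (case1 y x (Or.inr h) hyx hxx (by linear_combination ht))
  rw [htx, hty] at ht
  exact absurd (by linear_combination -ht) D.four_ne

variable {H : Subgroup (G8 F)} (hN : N8 Q ≤ H) (hC : ∀ g ∈ H, g * r0 = r0 * g → g ∈ N8 Q)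
include hN hC

/-- A commuting conjugate of the diagonal involution. -/
theorem comm_conj {h : G8 F} (hh : h ∈ H) (hc : h * r0 * h⁻¹ * r0 = r0 * (h * r0 * h⁻¹)) :
    h * r0 * h⁻¹ = r0 ∨ h * r0 * h⁻¹ = -(r0 : G8 F) ∨
      ∃ o i, Sgn fr o i ∧ (h * r0 * h⁻¹ = bd o o ∨ h * r0 * h⁻¹ = bd o (-o)) := by
  set t := h * r0 * h⁻¹ with ht
  have hr0 : (r0 : G8 F) ∈ H := hN (Q_le_N8 fr D hle hQ (r0_mem fr D hle hQ))
  have tt : t * t = 1 := by
    rw [ht, show h * r0 * h⁻¹ * (h * r0 * h⁻¹) = h * (r0 * r0) * h⁻¹ by group, r0_sq, mul_one, mul_inv_cancel]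
  have htr : (mt t).trace = 0 := by rw [ht, trace_conj, trace_r0 fr D]
  have tH : t ∈ H := mul_mem (mul_mem hh hr0) (inv_mem hh)
  have tN := hC t tH hc
  -- a square root of the diagonal involution gives one of `t`
  have hsq : ∃ c ∈ H, c * r0 = r0 * c ∧ c * c = t := by
    set t0 := h⁻¹ * r0 * h with ht0
    have h0 : t0 * r0 = r0 * t0 := by
      have := congrArg (fun z => h⁻¹ * z * h) hc
      simp only [ht, ht0] at this ⊢
      simpa [mul_assoc] using this.symm
    have t0H : t0 ∈ H := mul_mem (mul_mem (inv_mem hh) hr0) hh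
    have t0N := hC t0 t0H h0
    obtain ⟨x0, y0, e0⟩ := exists_bd D.two h0
    rw [e0] at t0N
    obtain ⟨-, hy0, -⟩ := of_bd_mem_N8 fr D hle hQ t0N
    have hy0y : y0 * y0 = 1 := by
      have : t0 * t0 = 1 := by
        rw [ht0, show h⁻¹ * r0 * h * (h⁻¹ * r0 * h) = h⁻¹ * (r0 * r0) * h by group, r0_sq, mul_one, inv_mul_cancel]
      rw [e0, bd_mul, ← bd_one] at this
      exact (bd_inj this).2
    obtain ⟨q, hq, hqq, hqc⟩ := exists_quarter fr D hle hy0 hy0y
    set c0 : G8 F := bd 1 q with hc0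
    have hc0H : c0 ∈ H := hN (bd_one_mem fr D hle hQ hq)
    have hc0t : c0 * t0 = t0 * c0 := by rw [hc0, e0, bd_mul, bd_mul, one_mul, mul_one, hqc]
    refine ⟨h * c0 * h⁻¹, mul_mem (mul_mem hh hc0H) (inv_mem hh), ?_, ?_⟩
    · calc h * c0 * h⁻¹ * r0 = h * (c0 * t0) * h⁻¹ := by rw [ht0]; group
        _ = h * (t0 * c0) * h⁻¹ := by rw [hc0t]
        _ = _ := by rw [ht0]; group
    · calc h * c0 * h⁻¹ * (h * c0 * h⁻¹) = h * (c0 * c0) * h⁻¹ := by group
        _ = t := by rw [hc0, bd_mul, one_mul, hqq, ht]; rfl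
  obtain ⟨x, y, e⟩ := exists_bd D.two hc
  rw [e] at tt htr tN hsq ⊢
  obtain ⟨hx, hy, hxy⟩ := of_bd_mem_N8 fr D hle hQ tN
  rw [bd_mul, ← bd_one] at tt
  obtain ⟨hxx, hyy⟩ := bd_inj tt
  rw [trace_bd] at htr
  have t1 := trace_one4 fr D
  have t2 := trace_neg_one4 fr D
  have case1 : ∀ (x y : GL I4 F), (x = 1 ∨ x = -1) → x⁻¹ * y ∈ R → y * y = 1 →
      (mt x).trace + (mt y).trace = 0 → y = -x := by
    intro x y hx hxy hyy ht
    have hyR : y ∈ R := by
      rcases hx with rfl | rfl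
      · simpa using hxy
      · simpa using R.mul_mem (neg_one_mem fr D) hxy
    rcases invol_R fr D hle hQ hyR hyy with rfl | rfl | ⟨i, hi⟩ <;> rcases hx with rfl | rfl
    · rw [t1] at ht; exact absurd (by linear_combination ht) (eight_ne fr D)
    · simp
    · simp
    · rw [t2] at ht; exact absurd (by linear_combination -ht) (eight_ne fr D)
    · rw [t1, Sgn.trace fr D hi, add_zero] at ht; exact absurd ht D.four_ne
    · rw [t2, Sgn.trace fr D hi, add_zero, neg_eq_zero] at ht; exact absurd ht D.four_ne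
  by_cases hxs : x = 1 ∨ x = -1
  · have hyv := case1 x y hxs hxy hyy htr
    rcases hxs with rfl | rfl
    · exact Or.inl (by rw [hyv]; rfl)
    · exact Or.inr (Or.inl (by rw [hyv, r0, bd_neg]))
  by_cases hys : y = 1 ∨ y = -1
  · have hxv := case1 y x hys (by simpa using R.inv_mem hxy) hxx (by linear_combination htr)
    rcases hys with rfl | rfl
    · exact Or.inr (Or.inl (by rw [hxv, r0, bd_neg, neg_neg]))
    · exact Or.inl (by rw [hxv, neg_neg]; rfl)
  push Not at hxs hys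
  obtain ⟨π, hπ⟩ := exists_act fr D hle hx
  have hπy : Act fr y π := by
    have := act_mul fr D hπ (act_mem fr D hxy)
    rwa [mul_inv_cancel_left, mul_one] at this
  obtain ⟨c, hcH, hcr, hcc⟩ := hsq
  obtain ⟨x1, y1, rfl⟩ := exists_bd D.two hcr
  obtain ⟨hx1, hy1, hxy1⟩ := of_bd_mem_N8 fr D hle hQ (hC _ hcH hcr)
  rw [bd_mul] at hcc
  obtain ⟨hx2, hy2⟩ := bd_inj hcc
  obtain ⟨π1, hπ1⟩ := exists_act fr D hle hx1
  have hπy1 : Act fr y1 π1 := by
    have := act_mul fr D hπ1 (act_mem fr D hxy1)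
    rwa [mul_inv_cancel_left, mul_one] at this
  have hπ12 : π1 * π1 = π := act_unique fr D (hx2 ▸ act_mul fr D hπ1 hπ1) hπ
  have hsw : ∀ a b : Fin 5, a ≠ b → π1 * π1 ≠ Equiv.swap a b := fun a b hab e => by
    have := congrArg Equiv.Perm.sign e
    rw [map_mul, Int.units_mul_self, Equiv.Perm.sign_swap hab] at this
    exact absurd this (by decide)
  rcases invol_cases fr D hle hx hxx with h | h | ⟨i, hi⟩ | ⟨-, a, b, hab, ha⟩
  · exact absurd h hxs.1
  · exact absurd h hxs.2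
  swap
  · exact absurd (hπ12.trans (act_unique fr D hπ ha)) (hsw a b hab)
  rcases invol_cases fr D hle hy hyy with h | h | ⟨k, hk⟩ | ⟨-, a, b, hab, ha⟩
  · exact absurd h hys.1
  · exact absurd h hys.2
  swap
  · exact absurd (hπ12.trans (act_unique fr D hπy ha)) (hsw a b hab)
  by_cases hik : i = k
  · subst hik
    refine Or.inr (Or.inr ⟨x, i, hi, ?_⟩)
    rcases hi with rfl | rfl <;> rcases hk with rfl | rfl <;> simp
  exfalso
  have fix : ∀ {z z1 : GL I4 F} {l : Fin 5}, Sgn fr z l → Act fr z1 π1 → z1 * z1 = z → π1 l = l := by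
    intro z z1 l hz hz1 hzz
    have h1 : z1 * z * z1⁻¹ = z := by rw [← hzz]; group
    rcases hz with rfl | rfl
    · have h2 := act_conj fr D hz1 l
      rw [h1] at h2
      exact (Sgn.eq fr D (Or.inl rfl) h2).symm
    · have h2 := Sgn.neg fr (act_conj fr D hz1 l)
      rw [show -(z1 * ge fr l * z1⁻¹) = z1 * -ge fr l * z1⁻¹ by simp, h1] at h2
      exact (Sgn.eq fr D (Or.inr rfl) h2).symm
  have hk1 : π1 k = k := fix hk hπy1 hy2
  obtain ⟨δ, hδ, ek⟩ := hπ1 k
  rw [hk1] at ek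
  have hcomm : x * ge fr k = ge fr k * x := mt_ext (by
    rw [mt_mul, mt_mul, ← hx2, mt_mul, mt_ge, mul_assoc, ek, mul_smul_comm, ← mul_assoc, ek, smul_mul_assoc,
      smul_smul, show δ * δ = 1 by rcases hδ with rfl | rfl <;> simp, one_smul, mul_assoc])
  exact hik (Sgn.comm fr D hi (Or.inl rfl) hcomm)

theorem sing_of_comm {h : G8 F} (hh : h ∈ H) (hc : h * r0 * h⁻¹ * r0 = r0 * (h * r0 * h⁻¹)) :
    Sing Q (h * r0 * h⁻¹) := by
  rcases comm_conj fr D hle hQ hN hC hh hc with e | e | ⟨o, i, ho, e | e⟩ <;> rw [e]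
  exacts [⟨1, one_mem _, by rw [one_mul, inv_one, mul_one]⟩, sing_r0_neg fr D hle hQ, (sing_diag fr D hle hQ ho).1,
    (sing_diag fr D hle hQ ho).2]

theorem control_sing {g t : G8 F} (hg : g ∈ H) (ht : Sing Q t) (hc : g * t = t * g) : g ∈ N8 Q := by
  obtain ⟨n, hn, rfl⟩ := ht
  have h1 : n⁻¹ * g * n * r0 = r0 * (n⁻¹ * g * n) := by
    have := congrArg (fun z => n⁻¹ * z * n) hc
    simpa [mul_assoc] using this
  have := mul_mem (mul_mem hn (hC _ (mul_mem (mul_mem (inv_mem (hN hn)) hg) (hN hn)) h1)) (inv_mem hn)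
  simpa [mul_assoc] using this

/-- The diagonal involution and a conjugate of the plane involution. -/
theorem pair {h : G8 F} (hh : h ∈ H) :
    (∃ j, Sing Q j ∧ h * u4 fr * h⁻¹ * j = j * (h * u4 fr * h⁻¹)) ∨
    ∃ j k o i, Sgn fr o i ∧ (r0 * j = bd 1 o ∨ r0 * j = bd o 1) ∧ k * (r0 * j) * k⁻¹ = h * u4 fr * h⁻¹ ∧
      h * u4 fr * h⁻¹ * j = j * (h * u4 fr * h⁻¹) ∧ k ∈ Subgroup.zpowers (r0 * (h * u4 fr * h⁻¹)) ∧
      j ∈ Subgroup.zpowers (r0 * (h * u4 fr * h⁻¹)) := by
  set u := h * u4 fr * h⁻¹ with hu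
  set c := r0 * u with hc
  have uu : u * u = 1 := by
    rw [hu, show h * u4 fr * h⁻¹ * (h * u4 fr * h⁻¹) = h * (u4 fr * u4 fr) * h⁻¹ by group, u4_sq fr D, mul_one,
      mul_inv_cancel]
  have rr : (r0 : G8 F) * r0 = 1 := r0_sq
  have rinv : (r0 : G8 F)⁻¹ = r0 := inv_eq_of_mul_eq_one_right rr
  have hu4H : u4 fr ∈ H := hN (bd_one_mem fr D hle hQ (ge_mem fr 0))
  have cH : c ∈ H := mul_mem (hN (Q_le_N8 fr D hle hQ (r0_mem fr D hle hQ))) (mul_mem (mul_mem hh hu4H) (inv_mem hh))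
  have inv_c : r0 * c * r0⁻¹ = c⁻¹ := by
    rw [hc, _root_.mul_inv_rev, rinv, inv_eq_of_mul_eq_one_right uu, ← mul_assoc, rr, one_mul]
  have inv_pow : ∀ a : ℤ, r0 * c ^ a = c ^ (-a) * r0 := fun a => by
    have := conj_zpow (a := r0) (b := c) (i := a)
    rw [inv_c, _root_.inv_zpow'] at this
    exact mul_inv_eq_iff_eq_mul.1 this.symm
  have shift : ∀ a b : ℤ, c ^ a * (r0 * c ^ b) * (c ^ a)⁻¹ = r0 * c ^ (b - 2 * a) := fun a b => by
    rw [← mul_assoc, show c ^ a * r0 = r0 * c ^ (-a) by rw [inv_pow, neg_neg], mul_assoc r0, ← _root_.zpow_neg,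
      mul_assoc r0, ← _root_.zpow_add, ← _root_.zpow_add]
    congr 2
    ring
  have hru : r0 * c ^ (1 : ℤ) = u := by rw [zpow_one, hc, ← mul_assoc, rr, one_mul]
  haveI : Finite (G8 F) := inferInstance
  set n := orderOf c with hn
  have hn0 : 0 < n := orderOf_pos c
  have cn : c ^ (n : ℤ) = 1 := by rw [zpow_natCast, hn]; exact pow_orderOf_eq_one c
  rcases Nat.even_or_odd n with ⟨m, hm⟩ | ⟨m, hm⟩
  swap
  · exfalso
    have e := shift m 0
    rw [zpow_zero, mul_one, show (0 : ℤ) - 2 * m = 1 + n * (-1) by rw [hm]; push_cast; ring, _root_.zpow_add,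
      _root_.zpow_mul, cn, _root_.one_zpow, mul_one, hru] at e
    have ht := congrArg (fun z : G8 F => (mt z).trace) e
    simp only [trace_conj] at ht
    rw [trace_r0 fr D, hu, trace_conj, trace_u4 fr D] at ht
    exact D.four_ne ht.symm
  set j := c ^ (m : ℤ) with hj
  have jj : j * j = 1 := by rw [hj, ← _root_.zpow_add, ← cn, hm]; push_cast; rfl
  have jinv : j⁻¹ = j := inv_eq_of_mul_eq_one_right jj
  have j1 : j ≠ 1 := fun e => by
    rw [hj, zpow_natCast] at e
    have := Nat.le_of_dvd (by omega) (orderOf_dvd_of_pow_eq_one e)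
    omega
  have jr : j * r0 = r0 * j := by rw [inv_pow, _root_.zpow_neg, ← hj, jinv]
  have ju : u * j = j * u := by
    have hcj : j * c = c * j := by rw [hj]; exact ((Commute.refl c).zpow_left _).eq
    have e : u = r0 * c := by rw [← hru, zpow_one]
    calc u * j = r0 * c * j := by rw [e]
      _ = r0 * (j * c) := by rw [mul_assoc, hcj]
      _ = r0 * j * c := by rw [mul_assoc]
      _ = j * u := by rw [← jr, mul_assoc, e]
  rcases Nat.even_or_odd m with ⟨s, hs⟩ | ⟨s, hs⟩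
  · left
    refine ⟨j, ?_, ju⟩
    have e : c ^ (s : ℤ) * r0 * (c ^ (s : ℤ))⁻¹ = r0 * j := by
      have := shift s 0
      rw [zpow_zero, mul_one, show (0 : ℤ) - 2 * s = -m by rw [hs]; push_cast; ring, _root_.zpow_neg, ← hj, jinv] at this
      exact this
    have hrj := comm_conj fr D hle hQ hN hC (H.zpow_mem cH (s : ℤ))
      (by rw [e, mul_assoc, jr, ← mul_assoc])
    rw [e] at hrj
    have jeq : j = r0 * (r0 * j) := by rw [← mul_assoc, rr, one_mul]
    rcases hrj with e1 | e1 | ⟨o, i, ho, e1 | e1⟩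
    · exact absurd (by rw [jeq, e1, rr]) j1
    · exfalso
      have jneg : j = -1 := by rw [jeq, e1, mul_neg, rr]
      -- a vector fixed by the two involutions of the pair
      let L : ((I4 → F) × F) × ((I4 → F) × F) →ₗ[F] (I4 ⊕ I4 → F) :=
        LinearMap.coprod
          (Matrix.mulVecLin (mt h) ∘ₗ
            { toFun := fun z => Sum.elim z.1 (z.2 • (pp fr 0 *ᵥ Classical.epsilon fun w => pp fr 0 *ᵥ w ≠ 0))
              map_add' := fun z z' => by ext (a | a) <;> simp [add_smul]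
              map_smul' := fun t z => by ext (a | a) <;> simp [mul_smul] })
          (-(Matrix.mulVecLin (PrimeElusive.SymplType.mt (r0 : G8 F) * PrimeElusive.SymplType.mt h) ∘ₗ
            { toFun := fun z => Sum.elim z.1 (z.2 • (pp fr 0 *ᵥ Classical.epsilon fun w => pp fr 0 *ᵥ w ≠ 0))
              map_add' := fun z z' => by ext (a | a) <;> simp [add_smul]
              map_smul' := fun t z => by ext (a | a) <;> simp [mul_smul] }))
      set w0 := pp fr 0 *ᵥ Classical.epsilon fun w => pp fr 0 *ᵥ w ≠ 0 with hw0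
      have hw0ne : w0 ≠ 0 := by
        refine Classical.epsilon_spec (p := fun w => pp fr 0 *ᵥ w ≠ 0) ?_
        by_contra hno
        push Not at hno
        exact pp_ne_zero fr D 0 (Matrix.ext_of_mulVec_single fun k => by rw [hno, Matrix.zero_mulVec])
      obtain ⟨z, hz, hz0⟩ := (Submodule.ne_bot_iff _).1 (LinearMap.ker_ne_bot_of_finrank_lt (f := L) (by simp))
      obtain ⟨⟨x, a⟩, ⟨x', a'⟩⟩ := z
      set v : I4 ⊕ I4 → F := mt h *ᵥ Sum.elim x (a • w0)
      set v' : I4 ⊕ I4 → F := mt h *ᵥ Sum.elim x' (a' • w0)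
      have hv : v = mt (r0 : G8 F) *ᵥ v' := by
        rw [LinearMap.mem_ker] at hz
        simp [L, ← hw0] at hz
        rw [← sub_eq_zero, sub_eq_add_neg]
        simpa [v, v', Matrix.mulVec_mulVec] using hz
      have fix : ∀ (x : I4 → F) (a : F), mt u *ᵥ (mt h *ᵥ Sum.elim x (a • w0)) = mt h *ᵥ Sum.elim x (a • w0) := by
        intro x a
        rw [Matrix.mulVec_mulVec, hu]
        show (mt h * mt (u4 fr) * mt h⁻¹ * mt h) *ᵥ _ = _
        rw [mul_assoc, Units.inv_mul, mul_one, ← Matrix.mulVec_mulVec]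
        congr 1
        rw [u4, mt_bd, Matrix.fromBlocks_mulVec]
        congr 1
        · simp [mt_one]
        · simp [mt_ge, hw0, Matrix.mulVec_smul, Matrix.mulVec_mulVec, gen_pp fr D]
      have hc2 : mt (c * c) *ᵥ v = v := by
        have r2 : ∀ z, mt (r0 : G8 F) *ᵥ (mt (r0 : G8 F) *ᵥ z) = z := fun z => by
          rw [Matrix.mulVec_mulVec, ← Units.val_mul, rr, Units.val_one, Matrix.one_mulVec]
        rw [hc]
        show (mt (r0 : G8 F) * mt u * (mt (r0 : G8 F) * mt u)) *ᵥ v = v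
        rw [← Matrix.mulVec_mulVec, ← Matrix.mulVec_mulVec, ← Matrix.mulVec_mulVec, fix x a]
        show mt (r0 : G8 F) *ᵥ (mt u *ᵥ (mt (r0 : G8 F) *ᵥ v)) = v
        rw [hv, r2, show mt u *ᵥ v' = v' from fix x' a']
      have hp : ∀ k : ℕ, mt ((c * c) ^ k) *ᵥ v = v := fun k => by
        induction k with
        | zero => simp [PrimeElusive.SymplType.mt]
        | succ k ih => rw [pow_succ]; show (PrimeElusive.SymplType.mt _ * PrimeElusive.SymplType.mt _) *ᵥ v = v; rw [← Matrix.mulVec_mulVec, hc2, ih]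
      have hjv : mt j *ᵥ v = v := by
        rw [hj, zpow_natCast, show c ^ m = (c * c) ^ s by rw [← pow_two, ← pow_mul, hs, two_mul]]
        exact hp s
      rw [jneg] at hjv
      have hv0 : v = 0 := by
        have h2v : (2 : F) • v = 0 := by
          rw [two_smul]; nth_rw 1 [← hjv]
          simp [PrimeElusive.SymplType.mt, Matrix.neg_mulVec]
        exact (smul_eq_zero.1 h2v).resolve_left D.two
      have inj : ∀ (x : I4 → F) (a : F), mt h *ᵥ Sum.elim x (a • w0) = 0 → x = 0 ∧ a = 0 := fun x a h0 => by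
        have h1 := congrArg (fun z => mt h⁻¹ *ᵥ z) h0
        simp only [Matrix.mulVec_mulVec, ← Units.val_mul, inv_mul_cancel, Units.val_one, Matrix.one_mulVec,
          Matrix.mulVec_zero] at h1
        refine ⟨funext fun k => congrFun h1 (.inl k), ?_⟩
        have h2 : a • w0 = 0 := funext fun k => congrFun h1 (.inr k)
        exact (smul_eq_zero.1 h2).resolve_right hw0ne
      have hv'0 : v' = 0 := by
        have h3 := congrArg (fun z => mt (r0 : G8 F) *ᵥ z) hv
        rw [hv0, Matrix.mulVec_zero] at h3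
        simpa [Matrix.mulVec_mulVec, ← Units.val_mul, rr] using h3.symm
      obtain ⟨rfl, rfl⟩ := inj x a hv0
      obtain ⟨rfl, rfl⟩ := inj x' a' hv'0
      exact hz0 rfl
    · rw [jeq, e1, r0, bd_mul, one_mul, neg_one_mul]
      exact (sing_diag fr D hle hQ ho).2
    · rw [jeq, e1, r0, bd_mul, one_mul, neg_one_mul, neg_neg]
      exact (sing_diag fr D hle hQ ho).1
  · right
    have e : c ^ (s : ℤ) * (r0 * j) * (c ^ (s : ℤ))⁻¹ = u := by
      rw [hj, shift, show (m : ℤ) - 2 * s = 1 by rw [hs]; push_cast; ring, hru]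
    have rjH : r0 * j ∈ H := mul_mem (hN (Q_le_N8 fr D hle hQ (r0_mem fr D hle hQ))) (H.zpow_mem cH _)
    have rjc : r0 * j * r0 = r0 * (r0 * j) := by rw [mul_assoc, jr]
    have hne : r0 * j ≠ -1 := fun e1 => by
      rw [e1, hu, mul_neg, mul_one, neg_mul, mul_inv_cancel] at e
      have h2 := congrArg (fun z => h⁻¹ * z * h) e
      simp [mul_assoc] at h2
      have h3 := congrArg (fun z : G8 F => z) h2.symm
      rw [u4, ← bd_one, bd_neg] at h3
      exact ne_neg_self fr D 1 (bd_inj h3).1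
    obtain ⟨o, i, ho, hs'⟩ := side_of_trace fr D hle hQ (hC _ rjH rjc) rjc
      (by rw [show r0 * j * (r0 * j) = r0 * r0 * (j * j) by rw [← mul_assoc, rjc]; group, rr, one_mul, jj])
      (by rw [← trace_conj (c ^ (s : ℤ)) (r0 * j), e, hu, trace_conj, trace_u4 fr D]) hne
    exact ⟨j, _, o, i, ho, hs', e, ju, ⟨_, rfl⟩, ⟨_, rfl⟩⟩

end CfsgLib.ExtraSpEight
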