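import Cfsg.Agent.Lib.ExtraSpEight.Sides

/-!
The centraliser of a plane involution in an overgroup of the normaliser, and the maximality dichotomy for the
normaliser in the block model.
-/

set_option autoImplicit false
set_option linter.unusedSectionVars false
set_option linter.unusedSimpArgs false

namespace CfsgLib.ExtraSpEight

open Matrix Cfsg CfsgLib.Sp4Odd CfsgLib.PrimeElusive.SymplType

open scoped MatrixGroups

variable {F : Type*} [Field F] {R : Subgroup (GL I4 F)}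
  (fr : PrimeElusive.SymplType.Frame R) (D : Data R 2) (hle : R ≤ spGL 2 F) {Q : Subgroup (G8 F)}
  (hQ : Model R Q) [Finite F] {H : Subgroup (G8 F)} (hN : N8 Q ≤ H) (hH : H ≤ sp8 F)
  (hC : ∀ g ∈ H, g * r0 = r0 * g → g ∈ N8 Q)

include fr D hle hQ

theorem u4_mem : u4 fr ∈ N8 Q := bd_one_mem fr D hle hQ (ge_mem fr 0)

theorem plane_u4 : Plane fr Q (u4 fr) := ⟨1, one_mem _, by rw [one_mul, inv_one, mul_one]⟩

theorem ge_ne_one (i : Fin 5) : ge fr i ≠ 1 ∧ ge fr i ≠ -1 := by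
  constructor <;> intro e <;> have h := congrArg (fun g : GL I4 F => (mt g).trace) e <;>
    simp only [mt_ge, gen_trace fr D] at h
  · exact D.four_ne (h.trans (trace_one4 fr D)).symm
  · exact neg_ne_zero.2 D.four_ne (h.trans (trace_neg_one4 fr D)).symm

include hN hC

/-- A conjugate commuting with the plane involution commutes with a side involution of the first block. -/
theorem side_zero {g : G8 F} (hg : g ∈ H) (hgu : g * u4 fr = u4 fr * g) {i : Fin 5} (hi : i ≠ 0)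
    (hw : g * bd (ge fr i) 1 * g⁻¹ ∉ N8 Q) :
    ∃ o l, Sgn fr o l ∧ l ≠ 0 ∧ g * bd (ge fr i) 1 * g⁻¹ * bd o 1 = bd o 1 * (g * bd (ge fr i) 1 * g⁻¹) := by
  obtain ⟨n, hn, hwn⟩ := (plane_side fr D hle hQ (o := ge fr i) (Or.inl rfl)).2
  set w := bd (ge fr i) (1 : GL I4 F) with hwdef
  set u' := g * w * g⁻¹ with hu'
  have eu : g * n * u4 fr * (g * n)⁻¹ = u' := by rw [hu', hwn]; group
  have uH : u' ∈ H := mul_mem (mul_mem hg (hN (bd_left_mem fr D hle hQ (ge_mem fr i)))) (inv_mem hg)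
  have gu : Commute g (u4 fr) := hgu
  have wu : Commute w (u4 fr) := by
    show w * u4 fr = u4 fr * w
    rw [hwdef, u4, bd_mul, bd_mul, one_mul, mul_one, mul_one, one_mul]
  have cu : Commute u' (u4 fr) := (gu.mul_left wu).mul_left gu.inv_left
  rcases pair fr D hle hQ hN hC (mul_mem hg (hN hn)) with
    ⟨j, hj, hc⟩ | ⟨j, k, o, l, ho, hv, hk, hc, hkz, hjz⟩
  · rw [eu] at hc
    exact absurd (control_sing fr D hle hQ hN hC uH hj hc) hw
  rw [eu] at hk hc hkz hjz
  have ru : Commute (r0 : G8 F) (u4 fr) := by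
    show r0 * u4 fr = u4 fr * r0
    rw [r0, u4, bd_mul, bd_mul]; simp
  have zu : ∀ x ∈ Subgroup.zpowers (r0 * u'), Commute x (u4 fr) := by
    intro x hx
    obtain ⟨a, rfl⟩ := Subgroup.mem_zpowers_iff.1 hx
    exact (ru.mul_left cu).zpow_left a
  have vu : Commute (r0 * j) (u4 fr) := ru.mul_left (zu j hjz)
  have jv : j = r0 * (r0 * j) := by rw [← mul_assoc, r0_sq, one_mul]
  rcases hv with hv | hv
  · exfalso
    have e := vu.eq
    rw [hv, u4, bd_mul, bd_mul] at e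
    have hl0 : l = 0 := Sgn.comm fr D ho (Or.inl rfl) (bd_inj e).2
    subst hl0
    rcases ho with rfl | rfl
    · rw [hv, show k * bd 1 (ge fr 0) * k⁻¹ = u4 fr from by
        rw [show bd 1 (ge fr 0) = u4 fr from rfl, (zu k hkz).eq, mul_inv_cancel_right]] at hk
      have e1 : w = u4 fr := by
        calc w = g⁻¹ * u' * g := by rw [hu']; group
          _ = g⁻¹ * u4 fr * g := by rw [hk]
          _ = u4 fr := by rw [mul_assoc, ← hgu, inv_mul_cancel_left]
      exact (ge_ne_one fr D hle hQ i).1 (bd_inj e1).1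
    · have e1 : g⁻¹ * k * r0 * (g⁻¹ * k)⁻¹ = bd (ge fr i) (ge fr 0) := by
        have hv' : r0 * j = r0 * u4 fr := by rw [hv, r0, u4, bd_mul, one_mul, neg_one_mul]
        calc g⁻¹ * k * r0 * (g⁻¹ * k)⁻¹ = g⁻¹ * (k * (r0 * u4 fr) * k⁻¹) * (k * (u4 fr)⁻¹ * k⁻¹) * g := by group
          _ = g⁻¹ * u' * (u4 fr)⁻¹ * g := by
            rw [← hv', hk, (zu k hkz).inv_right.eq, mul_inv_cancel_right]
          _ = w * (g⁻¹ * (u4 fr)⁻¹ * g) := by rw [hu']; group
          _ = w * (u4 fr)⁻¹ := by rw [mul_assoc g⁻¹, ← gu.inv_right.eq, inv_mul_cancel_left]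
          _ = _ := by rw [hwdef, inv_eq_of_mul_eq_one_right (u4_sq fr D), u4, bd_mul, mul_one, one_mul]
      have hk' : g⁻¹ * k ∈ H := mul_mem (inv_mem hg) (by
        obtain ⟨a, rfl⟩ := Subgroup.mem_zpowers_iff.1 hkz
        exact H.zpow_mem (mul_mem (hN (Q_le_N8 fr D hle hQ (r0_mem fr D hle hQ))) uH) a)
      rcases comm_conj fr D hle hQ hN hC hk' (by rw [e1, r0, bd_mul, bd_mul]; simp) with
        e2 | e2 | ⟨o', l', ho', e2 | e2⟩ <;> rw [e1] at e2
      · exact (ge_ne_one fr D hle hQ i).1 (bd_inj (e2.trans rfl)).1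
      · rw [r0, bd_neg] at e2; exact (ge_ne_one fr D hle hQ i).2 (bd_inj e2).1
      · obtain ⟨a, b⟩ := bd_inj e2
        exact hi ((Sgn.eq fr D (Or.inl a.symm) ho').trans (Sgn.eq fr D (Or.inl b.symm) ho').symm)
      · obtain ⟨a, b⟩ := bd_inj e2
        exact hi ((Sgn.eq fr D (Or.inl a.symm) ho').trans (Sgn.eq fr D (Or.inl b.symm) (Sgn.neg fr ho')).symm)
  · have hjv : -j = bd (-o) 1 := by rw [jv, hv, r0, bd_mul, bd_neg]; simp
    have hc' : Commute u' (bd (-o) 1) := by rw [← hjv]; exact (show Commute u' j from hc).neg_right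
    by_cases hl : l = 0
    · exfalso
      subst hl
      have hsing : Sing Q (bd (-o) 1 * u4 fr) := by
        rw [u4, bd_mul, mul_one, one_mul]
        rcases ho with rfl | rfl
        · have := (sing_diag fr D hle hQ (o := -ge fr 0) (i := 0) (Or.inr rfl)).2
          rwa [neg_neg] at this
        · rw [neg_neg]; exact (sing_diag fr D hle hQ (o := ge fr 0) (i := 0) (Or.inl rfl)).1
      exact hw (control_sing fr D hle hQ hN hC uH hsing (hc'.mul_right cu).eq)
    · exact ⟨-o, l, Sgn.neg fr ho, hl, hc'.eq⟩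

include hH

/-- The side involutions go into the normaliser. -/
theorem sides_mem {g : G8 F} (hg : g ∈ H) (hgu : g * u4 fr = u4 fr * g) {i : Fin 5} (hi : i ≠ 0) :
    g * bd (ge fr i) 1 * g⁻¹ ∈ N8 Q := by
  classical
  by_contra hw
  obtain ⟨ni, hni, hwn⟩ := (plane_side fr D hle hQ (o := ge fr i) (Or.inl rfl)).2
  set w := bd (ge fr i) (1 : GL I4 F) with hwdef
  set u' := g * w * g⁻¹ with hu'
  set h := g * ni with hh
  have hhH : h ∈ H := mul_mem hg (hN hni)
  have eu : h * u4 fr * h⁻¹ = u' := by rw [hu', hwn, hh]; group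
  have notmem : ∀ n ∈ N8 Q, n * u' * n⁻¹ ∉ N8 Q := fun n hn h' => hw (by
    have := mul_mem (mul_mem (inv_mem hn) h') hn
    rwa [show n⁻¹ * (n * u' * n⁻¹) * n = u' by group] at this)
  have pull : ∀ n ∈ N8 Q, ∀ W, Plane fr Q W → n * u' * n⁻¹ * W = W * (n * u' * n⁻¹) →
      ∀ v, mt u' *ᵥ v = -v → mt W *ᵥ (mt n *ᵥ v) = mt n *ᵥ v := by
    intro n hn W hW hc v hv
    have hWN := plane_mem fr D hle hQ hW
    obtain ⟨nW, hnW, hWe⟩ := hW
    refine commute_fix fr D hle (mul_mem hn.2 (hH hhH)) hnW.2 (a := n * u' * n⁻¹) (by rw [← eu]; group) hWe hc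
      (fun e => notmem n hn (e ▸ hWN)) (u4_mem fr D hle hQ).2 _ ?_
    rw [Matrix.mulVec_mulVec, ← Units.val_mul, show n * u' * n⁻¹ * n = n * u' by group, Units.val_mul,
      ← Matrix.mulVec_mulVec, hv, Matrix.mulVec_neg]
  -- the negative space is carried by the fixed space of the involution in the second block
  have F1 : ∀ x y, mt u' *ᵥ Sum.elim x y = -Sum.elim x y → pp fr 0 *ᵥ y = y := by
    intro x y hv
    have gu : Commute g (u4 fr) := hgu
    have wu : Commute w (u4 fr) := by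
      show w * u4 fr = u4 fr * w
      rw [hwdef, u4, bd_mul, bd_mul, one_mul, mul_one, mul_one, one_mul]
    have h1 := pull 1 (one_mem _) (u4 fr) (plane_u4 fr D hle hQ)
      (by rw [one_mul, inv_one, mul_one]; exact ((gu.mul_left wu).mul_left gu.inv_left).eq) _ hv
    rw [show (mt (1 : G8 F)) = 1 from rfl, Matrix.one_mulVec, u4, mt_bd, Matrix.fromBlocks_mulVec, mt_ge] at h1
    have h2 : gen fr 0 *ᵥ y = y := funext fun k => by simpa using congrFun h1 (Sum.inr k)
    exact pp_of_gen0 fr D h2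
  have e1R : ge fr 1 ∈ R := ge_mem fr 1
  have F2 : ∃ o l, Sgn fr o l ∧ l ≠ 0 ∧
      ∀ x y, mt u' *ᵥ Sum.elim x y = -Sum.elim x y → pm fr 0 *ᵥ x = mt o *ᵥ y := by
    set n := n13 fr D 0 with hn
    have hnN : n ∈ N8 Q := n13_mem fr D hle hQ 0
    have ecj : n * g * w * (n * g)⁻¹ = n * u' * n⁻¹ := by rw [hu']; group
    obtain ⟨o, l, ho, hl, hc⟩ := side_zero fr D hle hQ hN hC (mul_mem (hN hnN) hg)
      (by rw [mul_assoc, hgu, ← mul_assoc, n13_u4 fr D, mul_assoc]) hi (by rw [← hwdef, ecj]; exact notmem n hnN)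
    rw [← hwdef, ecj] at hc
    refine ⟨o, l, ho, hl, fun x y hv => ?_⟩
    have h1 := pull n hnN _ (plane_side fr D hle hQ ho).2 hc _ hv
    rw [show mt n = fromBlocks (pm fr 0) (pp fr 0) (pp fr 0) (pm fr 0) from rfl, mt_bd,
      Matrix.fromBlocks_mulVec, Matrix.fromBlocks_mulVec, Sum.elim_comp_inl, Sum.elim_comp_inr,
      Sum.elim_comp_inl, F1 x y hv] at h1
    have h2 : mt o *ᵥ (pm fr 0 *ᵥ x + y) = pm fr 0 *ᵥ x + y := funext fun k => by simpa using congrFun h1 (Sum.inl k)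
    obtain ⟨op, om⟩ := anti_pp fr D 0 (Sgn.anti fr D ho hl)
    have h3 := congrArg (fun z => pm fr 0 *ᵥ z) h2
    simp only [Matrix.mulVec_add, Matrix.mulVec_mulVec, ← mul_assoc, ← op, pm_pm fr D] at h3
    rw [mul_assoc (mt o), pp_pm fr D, mul_zero, Matrix.zero_mulVec, zero_add, pm_of_pp fr D (F1 x y hv), add_zero,
      ← Matrix.mulVec_mulVec, F1 x y hv] at h3
    exact h3.symm
  have F3 : ∃ o l, Sgn fr o l ∧ l ≠ 0 ∧
      ∀ x y, mt u' *ᵥ Sum.elim x y = -Sum.elim x y → pp fr 0 *ᵥ x = mt o *ᵥ (gen fr 1 *ᵥ y) := by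
    set n := bd (ge fr 1) 1 * n13 fr D 0 * bd (ge fr 1) 1 with hn
    have hb := bd_left_mem fr D hle hQ e1R
    have hnN : n ∈ N8 Q := mul_mem (mul_mem hb (n13_mem fr D hle hQ 0)) hb
    have bu : Commute (bd (ge fr 1) 1) (u4 fr) := by
      show bd (ge fr 1) 1 * u4 fr = u4 fr * bd (ge fr 1) 1
      rw [u4, bd_mul, bd_mul, one_mul, mul_one, mul_one, one_mul]
    have nu : Commute n (u4 fr) := (bu.mul_left (n13_u4 fr D)).mul_left bu
    have ecj : n * g * w * (n * g)⁻¹ = n * u' * n⁻¹ := by rw [hu']; group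
    obtain ⟨o, l, ho, hl, hc⟩ := side_zero fr D hle hQ hN hC (mul_mem (hN hnN) hg)
      (nu.mul_left hgu).eq hi (by rw [← hwdef, ecj]; exact notmem n hnN)
    rw [← hwdef, ecj] at hc
    refine ⟨o, l, ho, hl, fun x y hv => ?_⟩
    have h1 := pull n hnN _ (plane_side fr D hle hQ ho).2 hc _ hv
    obtain ⟨ep, em⟩ := anti_pp fr D 0 (A := gen fr 1) (gen_anti fr D (by decide))
    rw [show mt n = mt (bd (ge fr 1) 1) * fromBlocks (pm fr 0) (pp fr 0) (pp fr 0) (pm fr 0) *
        mt (bd (ge fr 1) 1) from rfl, mt_bd, mt_bd, mt_one, mt_ge] at h1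
    simp only [fromBlocks_multiply, Matrix.fromBlocks_mulVec, Sum.elim_comp_inl, Sum.elim_comp_inr, mul_zero, zero_mul,
      add_zero, zero_add, one_mul, mul_one] at h1
    have h2 : mt o *ᵥ (pp fr 0 *ᵥ x + gen fr 1 *ᵥ y) = pp fr 0 *ᵥ x + gen fr 1 *ᵥ y := by
      have hx : gen fr 1 * pm fr 0 * gen fr 1 = pp fr 0 := by rw [em, mul_assoc, gen_sq fr D, mul_one]
      have hy : (gen fr 1 * pp fr 0) *ᵥ y = gen fr 1 *ᵥ y := by rw [← Matrix.mulVec_mulVec, F1 x y hv]
      funext k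
      simpa [hx, hy] using congrFun h1 (Sum.inl k)
    obtain ⟨op, om⟩ := anti_pp fr D 0 (Sgn.anti fr D ho hl)
    have oe : mt o * gen fr 1 * gen fr 0 = gen fr 0 * (mt o * gen fr 1) := by
      rw [mul_assoc, gen_anti fr D (by decide : (1 : Fin 5) ≠ 0), mul_neg, ← mul_assoc, Sgn.anti fr D ho hl, neg_mul,
        neg_neg, mul_assoc]
    have z1 : pp fr 0 * mt o * pp fr 0 = 0 := by rw [← om, mul_assoc, pm_pp fr D, mul_zero]
    have z2 : pp fr 0 * (mt o * gen fr 1) = mt o * gen fr 1 * pp fr 0 := (comm_pp fr D 0 oe).1.symm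
    have z3 : pp fr 0 * gen fr 1 = gen fr 1 * pm fr 0 := em.symm
    have h3 : pp fr 0 *ᵥ (pp fr 0 *ᵥ x + gen fr 1 *ᵥ y) = pp fr 0 *ᵥ x := by
      rw [Matrix.mulVec_add, Matrix.mulVec_mulVec, pp_pp fr D, Matrix.mulVec_mulVec, z3, ← Matrix.mulVec_mulVec,
        pm_of_pp fr D (F1 x y hv), Matrix.mulVec_zero, add_zero]
    rw [← h3, ← h2, Matrix.mulVec_add, Matrix.mulVec_add, Matrix.mulVec_mulVec, Matrix.mulVec_mulVec,
      z1, Matrix.zero_mulVec, zero_add, Matrix.mulVec_mulVec, Matrix.mulVec_mulVec, mul_assoc (pp fr 0) (mt o) (gen fr 1), z2, ← Matrix.mulVec_mulVec, F1 x y hv,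
      ← Matrix.mulVec_mulVec]
  obtain ⟨o2, l2, ho2, hl2, hB⟩ := F2
  obtain ⟨o3, l3, ho3, hl3, hA⟩ := F3
  have hgraph : ∀ x y, mt u' *ᵥ Sum.elim x y = -Sum.elim x y →
      x = (mt (o3 * ge fr 1) + mt o2) *ᵥ y := by
    intro x y hv
    rw [Matrix.add_mulVec, mt_mul, mt_ge, ← Matrix.mulVec_mulVec, ← hA x y hv, ← hB x y hv, ← Matrix.add_mulVec,
      pp_add_pm fr D, Matrix.one_mulVec]
  -- every vector of the fixed space occurs
  have hsurj : ∀ y, pp fr 0 *ᵥ y = y → ∃ x, mt u' *ᵥ Sum.elim x y = -Sum.elim x y := by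
    let emb : (I4 → F) →ₗ[F] (I4 ⊕ I4 → F) :=
      { toFun := fun y => Sum.elim (0 : I4 → F) y
        map_add' := fun y y' => by ext (a | a) <;> simp
        map_smul' := fun t y => by ext (a | a) <;> simp }
    let L : (pm fr 0).mulVecLin.range →ₗ[F] (I4 → F) :=
      LinearMap.funLeft F F Sum.inr ∘ₗ (mt h).mulVecLin ∘ₗ emb ∘ₗ Submodule.subtype _
    have hT : ∀ z : (pm fr 0).mulVecLin.range,
        mt u' *ᵥ (mt h *ᵥ emb z) = -(mt h *ᵥ emb z) := by
      rintro ⟨z, a, ha⟩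
      rw [Matrix.mulVecLin_apply] at ha
      have hz : mt (u4 fr) *ᵥ emb z = -emb z := (u4_neg fr D).2 ⟨Sum.elim_comp_inl _ _, by
        show pm fr 0 *ᵥ (Sum.elim (0 : I4 → F) z ∘ Sum.inr) = Sum.elim (0 : I4 → F) z ∘ Sum.inr
        rw [Sum.elim_comp_inr, ← ha, Matrix.mulVec_mulVec, pm_pm fr D]⟩
      show mt u' *ᵥ (mt h *ᵥ emb z) = -(mt h *ᵥ emb z)
      rw [Matrix.mulVec_mulVec, ← Units.val_mul, ← eu, inv_mul_cancel_right, Units.val_mul, ← Matrix.mulVec_mulVec,
        hz, Matrix.mulVec_neg]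
    have split : ∀ v : I4 ⊕ I4 → F, v = Sum.elim (v ∘ Sum.inl) (v ∘ Sum.inr) := fun v => (Sum.elim_comp_inl_inr v).symm
    have hrange : L.range = (pp fr 0).mulVecLin.range := by
      refine Submodule.eq_of_le_of_finrank_le ?_ ?_
      · rintro _ ⟨z, rfl⟩
        have hv := hT z
        rw [split (mt h *ᵥ emb z)] at hv
        exact ⟨L z, F1 _ _ hv⟩
      · rw [LinearMap.finrank_range_of_inj (f := L) ?_, (finrank_proj fr D).1, (finrank_proj fr D).2]
        rw [injective_iff_map_eq_zero]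
        intro z hz
        have hv := hT z
        set v := mt h *ᵥ emb z with hvd
        rw [split v] at hv
        have hx := hgraph _ _ hv
        have hz' : v ∘ Sum.inr = 0 := hz
        rw [hz', Matrix.mulVec_zero] at hx
        have hv0 : v = 0 := by rw [split v, hx, hz']; ext (a | a) <;> rfl
        have h0 := congrArg (fun z => mt h⁻¹ *ᵥ z) hv0
        simp only [hvd, Matrix.mulVec_mulVec, Units.inv_mul, Matrix.one_mulVec, Matrix.mulVec_zero] at h0
        exact Subtype.ext (funext fun k => congrFun h0 (Sum.inr k))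
    intro y hy
    have hy' : y ∈ L.range := hrange ▸ ⟨y, hy⟩
    obtain ⟨z, rfl⟩ := hy'
    refine ⟨(mt h *ᵥ emb z) ∘ Sum.inl, ?_⟩
    have := hT z
    rw [split (mt h *ᵥ emb z)] at this
    exact this
  -- mixing the blocks
  set o := ge fr 1 * ge fr 2 * (ge fr 1 * o3) with ho
  have oR : o ∈ R := R.mul_mem (R.mul_mem e1R (ge_mem fr 2)) (R.mul_mem e1R (Sgn.mem fr D ho3))
  set hh' := gen fr 1 * gen fr 2 with hhh
  have oA : mt o * mt (o3 * ge fr 1) = hh' := by
    rw [ho, ← mt_mul, show ge fr 1 * ge fr 2 * (ge fr 1 * o3) * (o3 * ge fr 1) =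
      ge fr 1 * ge fr 2 * (ge fr 1 * (o3 * o3) * ge fr 1) by group, Sgn.sq fr D ho3, mul_one, ge_sq fr D, mul_one,
      mt_mul, mt_ge, mt_ge]
  set B' := mt (o * o2) with hB'
  have oX : ∀ x y, mt u' *ᵥ Sum.elim x y = -Sum.elim x y → mt o *ᵥ x = hh' *ᵥ y + B' *ᵥ y := by
    intro x y hv
    rw [hgraph x y hv, Matrix.mulVec_mulVec, mul_add, oA, hB', mt_mul o o2, Matrix.add_mulVec]
  set m := hd fr D * bd o 1 with hm
  have hmN : m ∈ N8 Q := mul_mem (hd_mem fr D hle hQ) (bd_left_mem fr D hle hQ oR)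
  have emv : ∀ x y, mt m *ᵥ Sum.elim x y =
      Sum.elim (half fr *ᵥ (mt o *ᵥ x + y)) (half fr *ᵥ (mt o *ᵥ x - y)) := by
    intro x y
    rw [show mt m = mt (hd fr D) * mt (bd o 1) from rfl, ← Matrix.mulVec_mulVec, mt_bd, mt_one,
      Matrix.fromBlocks_mulVec, mt_hd, Matrix.fromBlocks_mulVec]
    simp [Matrix.neg_mulVec, Matrix.mulVec_add, Matrix.mulVec_sub, sub_eq_add_neg, Matrix.mulVec_neg]
  have key : ∃ o' l s, Sgn fr o' l ∧ (s = 1 ∨ s = -1) ∧ ∀ y, pp fr 0 *ᵥ y = y →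
      mt o' *ᵥ (half fr *ᵥ ((hh' + (s : F) • 1 + B') *ᵥ y)) = half fr *ᵥ ((hh' + (s : F) • 1 + B') *ᵥ y) := by
    rcases pair fr D hle hQ hN hC (mul_mem (hN hmN) hhH) with ⟨j, hj, hc⟩ | ⟨j, k, o', l, ho', hv, hk, hc, -, -⟩ <;>
      rw [show m * h * u4 fr * (m * h)⁻¹ = m * u' * m⁻¹ by rw [← eu]; group] at hc
    · exact absurd (control_sing fr D hle hQ hN hC (mul_mem (mul_mem (hN hmN)
        (mul_mem (mul_mem hg (hN (bd_left_mem fr D hle hQ (ge_mem fr i)))) (inv_mem hg))) (inv_mem (hN hmN))) hj hc)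
        (notmem m hmN)
    have jv : j = r0 * (r0 * j) := by rw [← mul_assoc, r0_sq, one_mul]
    rcases hv with hv | hv
    · have hj : j = bd 1 (-o') := by rw [jv, hv, r0, bd_mul]; simp
      refine ⟨-o', l, -1, Sgn.neg fr ho', Or.inr rfl, fun y hy => ?_⟩
      obtain ⟨x, hx⟩ := hsurj y hy
      have h1 := pull m hmN _ (plane_side fr D hle hQ (Sgn.neg fr ho')).1 (hj ▸ hc) _ hx
      rw [emv, mt_bd, Matrix.fromBlocks_mulVec, Sum.elim_comp_inr, oX x y hx] at h1
      have h2 : mt (-o') *ᵥ (half fr *ᵥ (hh' *ᵥ y + B' *ᵥ y - y)) = half fr *ᵥ (hh' *ᵥ y + B' *ᵥ y - y) :=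
        funext fun k => by simpa using congrFun h1 (Sum.inr k)
      rwa [show (hh' + (-1 : F) • 1 + B') *ᵥ y = hh' *ᵥ y + B' *ᵥ y - y by
        rw [Matrix.add_mulVec, Matrix.add_mulVec, neg_one_smul, Matrix.neg_mulVec, Matrix.one_mulVec]; abel]
    · have hj : -j = bd (-o') 1 := by rw [jv, hv, r0, bd_mul, bd_neg]; simp
      refine ⟨-o', l, 1, Sgn.neg fr ho', Or.inl rfl, fun y hy => ?_⟩
      obtain ⟨x, hx⟩ := hsurj y hy
      have h1 := pull m hmN _ (plane_side fr D hle hQ (Sgn.neg fr ho')).2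
        (by rw [← hj]; exact (show Commute (m * u' * m⁻¹) j from hc).neg_right.eq) _ hx
      rw [emv, mt_bd, Matrix.fromBlocks_mulVec, Sum.elim_comp_inl, oX x y hx] at h1
      have h2 : mt (-o') *ᵥ (half fr *ᵥ (hh' *ᵥ y + B' *ᵥ y + y)) = half fr *ᵥ (hh' *ᵥ y + B' *ᵥ y + y) :=
        funext fun k => by simpa using congrFun h1 (Sum.inl k)
      rwa [show (hh' + (1 : F) • 1 + B') *ᵥ y = hh' *ᵥ y + B' *ᵥ y + y by
        rw [Matrix.add_mulVec, Matrix.add_mulVec, one_smul, Matrix.one_mulVec]; abel]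
  obtain ⟨o', l', s, ho', hs, hk⟩ := key
  obtain ⟨k, kR, hpass, -⟩ := half_pass fr D (Sgn.mem fr D ho')
  have hleft : ∀ z, half fr *ᵥ z = 0 → z = 0 := fun z hz => by
    have h1 := congrArg (fun v => half' fr *ᵥ v) hz
    simp only [Matrix.mulVec_mulVec, (half_mul fr D).2, Matrix.smul_mulVec, Matrix.one_mulVec,
      Matrix.mulVec_zero] at h1
    exact (smul_eq_zero.1 h1).resolve_left (inv_ne_zero D.two)
  have k1 : k ≠ 1 := fun e => by
    rw [e, mt_one, mul_one] at hpass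
    have h1 := congrArg (fun M => M * half' fr) hpass
    simp only [mul_assoc, (half_mul fr D).1, mul_smul_comm, mul_one] at h1
    have : o' = 1 := mt_ext (by rw [mt_one]; exact smul_right_injective _ (inv_ne_zero D.two) h1)
    rcases ho' with e' | e' <;> rw [this] at e'
    exacts [(ge_ne_one fr D hle hQ l').1 e'.symm, (ge_ne_one fr D hle hQ l').2 (neg_eq_iff_eq_neg.1 e'.symm)]
  have hM : mt k * ((hh' + s • 1 + B') * pp fr 0) = (hh' + s • 1 + B') * pp fr 0 := by
    refine Matrix.ext_of_mulVec_single fun a => ?_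
    set z := pp fr 0 *ᵥ (Pi.single a 1 : I4 → F) with hz
    have hzp : pp fr 0 *ᵥ z = z := by rw [hz, Matrix.mulVec_mulVec, pp_pp fr D]
    have h1 := hk z hzp
    rw [Matrix.mulVec_mulVec, hpass, ← Matrix.mulVec_mulVec, ← sub_eq_zero, ← Matrix.mulVec_sub] at h1
    have h2 := sub_eq_zero.1 (hleft _ h1)
    simpa only [hz, Matrix.mulVec_mulVec] using h2
  -- properties of the mixing matrices
  have a12 : ∀ {a b : Fin 5}, a ≠ b → gen fr a * gen fr b = -(gen fr b * gen fr a) := fun h => gen_anti fr D h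
  have hcomm : hh' * gen fr 0 = gen fr 0 * hh' := by
    rw [hhh, mul_assoc, a12 (by decide : (2 : Fin 5) ≠ 0), mul_neg, ← mul_assoc, a12 (by decide : (1 : Fin 5) ≠ 0),
      neg_mul, neg_neg, mul_assoc]
  obtain ⟨hp', -⟩ := comm_pp fr D 0 hcomm
  have hhsq : hh' * hh' = -1 := by
    rw [hhh, mul_assoc, ← mul_assoc (gen fr 2), a12 (by decide : (2 : Fin 5) ≠ 1), neg_mul, mul_assoc, gen_sq fr D,
      mul_one, mul_neg, gen_sq fr D]
  have hBanti : B' * gen fr 0 = -(gen fr 0 * B') := by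
    have e2 := Sgn.anti fr D ho2 hl2
    have e3 := Sgn.anti fr D ho3 hl3
    have e1 := a12 (by decide : (1 : Fin 5) ≠ 0)
    have i1 : gen fr 1 * mt o3 * gen fr 0 = gen fr 0 * (gen fr 1 * mt o3) := by
      rw [mul_assoc, e3, mul_neg, ← mul_assoc, e1, neg_mul, neg_neg, mul_assoc]
    have eo : mt o * gen fr 0 = gen fr 0 * mt o := by
      rw [ho, mt_mul, mt_mul (ge fr 1) (ge fr 2), mt_mul (ge fr 1) o3, mt_ge, mt_ge]
      exact ((show Commute (gen fr 1 * gen fr 2) (gen fr 0) from hcomm).mul_left i1).eq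
    rw [hB', mt_mul, mul_assoc, e2, mul_neg, ← mul_assoc, eo, mul_assoc]
  obtain ⟨Bp, Bm⟩ := anti_pp fr D 0 hBanti
  have sp' : (hh' + s • 1) * pp fr 0 = pp fr 0 * (hh' + s • 1) := by
    rw [add_mul, mul_add, hp', smul_mul_assoc, one_mul, mul_smul_comm, mul_one]
  have expand : (hh' + s • 1 + B') * pp fr 0 = pp fr 0 * (hh' + s • 1) + pm fr 0 * B' := by
    rw [add_mul, sp', Bp]
  rw [expand] at hM
  have hinv : (hh' + s • 1) * (-hh' + s • 1) = (2 : F) • 1 := by
    have hss : s * s = 1 := by rcases hs with rfl | rfl <;> simp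
    simp only [add_mul, mul_add, mul_neg, hhsq, neg_neg, smul_mul_assoc, mul_smul_comm, one_mul, mul_one]
    match_scalars <;> first | linear_combination hss | ring1
  have BR : o * o2 ∈ R := R.mul_mem oR (Sgn.mem fr D ho2)
  have ppne := pp_ne_zero fr D (0 : Fin 5)
  rcases D.sgn k kR (ge fr 0) (ge_mem fr 0) with hk0 | hk0
  · have hk0' : mt k * gen fr 0 = gen fr 0 * mt k := by rw [← mt_ge]; exact congrArg Units.val hk0
    obtain ⟨kp, km⟩ := comm_pp fr D 0 hk0'
    have hX : mt k * pp fr 0 * (hh' + s • 1) = pp fr 0 * (hh' + s • 1) := by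
      have eR : pp fr 0 * (pp fr 0 * (hh' + s • 1) + pm fr 0 * B') = pp fr 0 * (hh' + s • 1) := by
        rw [mul_add (pp fr 0), ← mul_assoc, pp_pp fr D, ← mul_assoc (pp fr 0) (pm fr 0), pp_pm fr D, zero_mul,
          add_zero]
      have h1 := congrArg (fun M => pp fr 0 * M) hM
      beta_reduce at h1
      rwa [← mul_assoc, ← kp, mul_assoc (mt k), eR, ← mul_assoc] at h1
    have hY : mt k * (pm fr 0 * B') = pm fr 0 * B' := by
      rw [mul_add, ← mul_assoc, hX] at hM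
      exact add_left_cancel hM
    have hkp : mt k * pp fr 0 = pp fr 0 := by
      have h1 := congrArg (fun M => M * (-hh' + s • 1)) hX
      simp only [mul_assoc, hinv, mul_smul_comm, mul_one] at h1
      exact smul_right_injective _ D.two h1
    rcases D.sgn k kR _ BR with hkB | hkB
    · have hkB' : mt k * B' = B' * mt k := congrArg Units.val hkB
      have hkm : mt k * pm fr 0 = pm fr 0 := by
        have h1 := congrArg (fun M => M * mt (o * o2)⁻¹) hY
        simpa only [hB', mul_assoc, Units.mul_inv, mul_one] using h1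
      refine k1 (mt_ext ?_)
      rw [mt_one, ← pp_add_pm fr D (0 : Fin 5)]
      nth_rw 1 [← mul_one (mt k)]
      rw [← pp_add_pm fr D (0 : Fin 5), mul_add, hkp, hkm]
    · have hkB' : mt k * B' = -(B' * mt k) := hkB
      rw [← Bp, ← mul_assoc, hkB', neg_mul, mul_assoc, hkp] at hY
      have h2 : (2 : F) • (B' * pp fr 0) = 0 := by rw [two_smul]; nth_rw 1 [← hY]; exact neg_add_cancel _
      have h3 := congrArg (fun M => mt (o * o2)⁻¹ * M) ((smul_eq_zero.1 h2).resolve_left D.two)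
      simp only [hB', ← mul_assoc, Units.inv_mul, one_mul, mul_zero] at h3
      exact ppne h3
  · have hk0' : mt k * gen fr 0 = -(gen fr 0 * mt k) := by rw [← mt_ge]; exact hk0
    obtain ⟨kp, km⟩ := anti_pp fr D 0 hk0'
    set K := k * (o * o2) with hK
    have hX : mt K * pp fr 0 = (hh' + s • 1) * pp fr 0 := by
      have eR : pp fr 0 * (pp fr 0 * (hh' + s • 1) + pm fr 0 * B') = pp fr 0 * (hh' + s • 1) := by
        rw [mul_add (pp fr 0), ← mul_assoc, pp_pp fr D, ← mul_assoc (pp fr 0) (pm fr 0), pp_pm fr D, zero_mul,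
          add_zero]
      have eL : pm fr 0 * (pp fr 0 * (hh' + s • 1) + pm fr 0 * B') = pm fr 0 * B' := by
        rw [mul_add (pm fr 0), ← mul_assoc, pm_pp fr D, zero_mul, zero_add, ← mul_assoc, pm_pm fr D]
      have h1 := congrArg (fun M => pp fr 0 * M) hM
      beta_reduce at h1
      rw [← mul_assoc, ← km, mul_assoc (mt k), eL, eR] at h1
      rw [hK, mt_mul k, mul_assoc, ← hB', Bp, h1, sp']
    set l := ge fr 2 * ge fr 3 with hl
    have lR : l ∈ R := R.mul_mem (ge_mem fr 2) (ge_mem fr 3)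
    have hl0 : mt l * gen fr 0 = gen fr 0 * mt l := by
      rw [hl, mt_mul, mt_ge, mt_ge, mul_assoc, a12 (by decide : (3 : Fin 5) ≠ 0), mul_neg, ← mul_assoc,
        a12 (by decide : (2 : Fin 5) ≠ 0), neg_mul, neg_neg, mul_assoc]
    obtain ⟨lp, -⟩ := comm_pp fr D 0 hl0
    have hlh : mt l * hh' = -(hh' * mt l) := by
      rw [hl, mt_mul, mt_ge, mt_ge, hhh]
      have e : gen fr 2 * gen fr 3 * gen fr 1 = gen fr 1 * (gen fr 2 * gen fr 3) := by
        rw [mul_assoc, a12 (by decide : (3 : Fin 5) ≠ 1), mul_neg, ← mul_assoc,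
          a12 (by decide : (2 : Fin 5) ≠ 1), neg_mul, neg_neg, mul_assoc]
      rw [← mul_assoc, e, mul_assoc, mul_assoc (gen fr 2), a12 (by decide : (3 : Fin 5) ≠ 2), mul_neg, mul_neg]
      simp [mul_assoc]
    have h1 : mt l * mt K * pp fr 0 = (-(hh' * pp fr 0) + s • pp fr 0) * mt l := by
      rw [mul_assoc, hX, ← mul_assoc, mul_add, hlh, mul_smul_comm, mul_one, add_mul, add_mul, neg_mul, neg_mul,
        smul_mul_assoc, mul_assoc hh', lp, smul_mul_assoc, mul_assoc hh' (pp fr 0)]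
    have cancel : ∀ M N : Matrix I4 I4 F, M * mt l = N * mt l → M = N := fun M N h => by
      have := congrArg (fun Z => Z * mt l⁻¹) h
      simpa only [mul_assoc, Units.mul_inv, mul_one] using this
    rw [add_mul, smul_mul_assoc, one_mul] at hX
    have hfin : ∀ σ : F, mt l * mt K = σ • (mt K * mt l) →
        σ • (mt K * pp fr 0) = -(hh' * pp fr 0) + s • pp fr 0 := fun σ hσ => by
      apply cancel
      rw [← h1, hσ, smul_mul_assoc, smul_mul_assoc, mul_assoc, mul_assoc, lp]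
    rcases D.sgn l lR _ (R.mul_mem kR BR) with hσ | hσ
    · have h2 := hfin 1 (by rw [one_smul]; exact congrArg Units.val hσ)
      rw [one_smul, hX] at h2
      have h3 : (2 : F) • (hh' * pp fr 0) = 0 := by linear_combination (norm := module) h2
      have h4 := congrArg (fun M => hh' * M) ((smul_eq_zero.1 h3).resolve_left D.two)
      simp only [← mul_assoc, hhsq, neg_mul, one_mul, mul_zero, neg_eq_zero] at h4
      exact ppne h4
    · have h2 := hfin (-1) (by rw [neg_one_smul]; exact hσ)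
      rw [neg_one_smul, hX] at h2
      have h3 : (2 * s : F) • pp fr 0 = 0 := by linear_combination (norm := module) -h2
      refine ppne ((smul_eq_zero.1 h3).resolve_left (mul_ne_zero D.two ?_))
      rcases hs with rfl | rfl <;> simp

/-- The centraliser of the plane involution lies in the normaliser. -/
theorem control_u4 {g : G8 F} (hg : g ∈ H) (hgu : g * u4 fr = u4 fr * g) : g ∈ N8 Q := by
  set u := u4 fr with hu
  set r2 := g * -(r0 : G8 F) * g⁻¹ with hr2
  have uu : u * u = 1 := u4_sq fr D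
  have hrN : r2 ∈ N8 Q := by
    have h1 := sides_mem fr D hle hQ hN hH hC hg hgu (by decide : (1 : Fin 5) ≠ 0)
    have h2 := sides_mem fr D hle hQ hN hH hC hg hgu (by decide : (2 : Fin 5) ≠ 0)
    have := mul_mem (mul_mem h1 h2) (mul_mem h1 h2)
    convert this using 1
    rw [hr2, show g * bd (ge fr 1) 1 * g⁻¹ * (g * bd (ge fr 2) 1 * g⁻¹) *
      (g * bd (ge fr 1) 1 * g⁻¹ * (g * bd (ge fr 2) 1 * g⁻¹)) =
      g * (bd (ge fr 1) 1 * bd (ge fr 2) 1 * (bd (ge fr 1) 1 * bd (ge fr 2) 1)) * g⁻¹ by group]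
    congr 2
    rw [r0, bd_neg, neg_neg, bd_mul, bd_mul, one_mul, one_mul,
      show ge fr 1 * ge fr 2 * (ge fr 1 * ge fr 2) = ge fr 1 * (ge fr 2 * ge fr 1) * ge fr 2 by group,
      ge_anti fr D (by decide : (2 : Fin 5) ≠ 1), mul_neg, ← mul_assoc, ge_sq fr D, one_mul, neg_mul, ge_sq fr D]
  have rr : r2 * r2 = 1 := by
    rw [hr2, show g * -(r0 : G8 F) * g⁻¹ * (g * -(r0 : G8 F) * g⁻¹) = g * (-(r0 : G8 F) * -(r0 : G8 F)) * g⁻¹ by group,
      neg_mul_neg, r0_sq, mul_one, mul_inv_cancel]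
  have ru : Commute r2 u := by
    have h1 : Commute (-(r0 : G8 F)) u := by
      refine Commute.neg_left ?_
      show r0 * u = u * r0
      rw [hu, r0, u4, bd_mul, bd_mul]; simp
    exact ((show Commute g u from hgu).mul_left h1).mul_left (show Commute g u from hgu).inv_left
  set P := bd (ge fr 0) (ge fr 0) with hP
  set M := bd (-ge fr 0) (ge fr 0) with hMd
  have conj0 : ∀ o ∈ R, o * ge fr 0 * o⁻¹ = ge fr 0 ∨ o * ge fr 0 * o⁻¹ = -ge fr 0 := by
    intro o ho
    rcases D.sgn o ho (ge fr 0) (ge_mem fr 0) with h | h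
    · exact Or.inl (by rw [h, mul_inv_cancel_right])
    · exact Or.inr (by rw [show o * ge fr 0 = -(ge fr 0 * o) from mt_ext h, neg_mul, mul_inv_cancel_right])
  have e0i : (ge fr 0)⁻¹ = ge fr 0 := inv_eq_of_mul_eq_one_right (ge_sq fr D 0)
  have hset : ∀ q ∈ Q, q * u * q⁻¹ * u = 1 ∨ q * u * q⁻¹ * u = r0 ∨ q * u * q⁻¹ * u = P ∨ q * u * q⁻¹ * u = M := by
    intro q hq
    obtain ⟨o, ho, e | e | e | e⟩ := (hQ q).1 hq <;> subst e
    iterate 2
      rw [hu, u4, bd_inv, bd_mul, bd_mul, bd_mul]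
      simp only [mul_one, mul_inv_cancel, one_mul]
      try simp only [neg_mul, inv_neg, mul_neg, neg_neg]
      rcases conj0 o ho with e | e <;> rw [e]
      · exact Or.inl (by rw [ge_sq fr D, bd_one])
      · exact Or.inr (Or.inl (by rw [neg_mul, ge_sq fr D]; rfl))
    iterate 2
      rw [hu, u4, _root_.mul_inv_rev, sw_inv, bd_inv, ← mul_assoc _ (bd _ _) sw, mul_assoc sw, bd_mul, mul_assoc sw,
        bd_mul, mul_one, mul_inv_cancel, sw_bd, bd_mul, mul_one, one_mul]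
      try simp only [neg_mul, inv_neg, mul_neg, neg_neg]
      rcases conj0 o ho with e | e <;> rw [e]
      · exact Or.inr (Or.inr (Or.inl rfl))
      · exact Or.inr (Or.inr (Or.inr rfl))
  have e1 : ge fr 1 * ge fr 0 * (ge fr 1)⁻¹ = -ge fr 0 := by
    rw [ge_anti fr D (by decide : (1 : Fin 5) ≠ 0), neg_mul, mul_inv_cancel_right]
  have ex : ∀ X, X = r0 ∨ X = P ∨ X = M → ∃ q ∈ Q, X = q * u * q⁻¹ * u := by
    rintro X (rfl | rfl | rfl)
    · refine ⟨_, (bd_diag_mem fr D hle hQ (ge_mem fr 1)).1, ?_⟩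
      rw [hu, u4, bd_inv, bd_mul, bd_mul, bd_mul]
      simp only [mul_one, mul_inv_cancel, one_mul]
      rw [e1, neg_mul, ge_sq fr D]
      rfl
    · refine ⟨sw, sw_mem_Q fr D hle hQ, ?_⟩
      rw [hu, u4, sw_inv, sw_bd, bd_mul, mul_one, one_mul]
    · refine ⟨_, (bd_diag_mem fr D hle hQ (ge_mem fr 1)).2.2.1, ?_⟩
      rw [hu, u4, _root_.mul_inv_rev, sw_inv, bd_inv, ← mul_assoc _ (bd _ _) sw, mul_assoc sw, bd_mul, mul_assoc sw,
        bd_mul, mul_one, mul_inv_cancel, sw_bd, bd_mul, mul_one, one_mul, e1]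
  set f : G8 F → G8 F := fun X => r2 * X * r2⁻¹ with hf
  have r2i : r2⁻¹ = r2 := inv_eq_of_mul_eq_one_right rr
  have ff : ∀ X, f (f X) = X := fun X => by
    rw [hf]; simp only [r2i]; rw [show r2 * (r2 * X * r2) * r2 = r2 * r2 * X * (r2 * r2) by group, rr, one_mul, mul_one]
  have finj : ∀ {X Y}, f X = f Y → X = Y := fun {X Y} h => by rw [← ff X, h, ff]
  have P1 : P ≠ 1 := fun e => (ge_ne_one fr D hle hQ 0).1 (bd_inj (e.trans bd_one.symm)).1
  have M1 : M ≠ 1 := fun e => (ge_ne_one fr D hle hQ 0).1 (bd_inj (e.trans bd_one.symm)).2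
  have R1 : (r0 : G8 F) ≠ 1 := fun e => ne_neg_self fr D 1 (bd_inj (e.trans bd_one.symm)).2.symm
  have PM : P ≠ M := fun e => ne_neg_self fr D _ (bd_inj e).1
  have MR : M ≠ r0 := fun e => (ge_ne_one fr D hle hQ 0).2 (bd_inj e).2
  have PR : P ≠ r0 := fun e => (ge_ne_one fr D hle hQ 0).1 (bd_inj e).1
  have step : ∀ X, (X = r0 ∨ X = P ∨ X = M) → f X = r0 ∨ f X = P ∨ f X = M := by
    intro X hX
    obtain ⟨q, hq, e⟩ := ex X hX
    have hq' : r2 * q * r2⁻¹ ∈ Q := (Subgroup.mem_normalizer_iff.1 hrN.1 q).1 hq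
    have e' : f X = r2 * q * r2⁻¹ * u * (r2 * q * r2⁻¹)⁻¹ * u := by
      have hru : r2⁻¹ * u * r2 = u := by rw [mul_assoc, ← ru.eq, inv_mul_cancel_left]
      calc f X = r2 * q * u * q⁻¹ * (u * r2⁻¹) := by rw [hf, e]; group
        _ = r2 * q * (r2⁻¹ * u * r2) * q⁻¹ * (r2⁻¹ * u) := by rw [hru, ru.inv_left.eq]
        _ = _ := by group
    rcases hset _ hq' with h | h | h | h <;> rw [← e'] at h
    · have : X = 1 := finj (h.trans (by simp [hf]))
      rcases hX with rfl | rfl | rfl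
      exacts [absurd this R1, absurd this P1, absurd this M1]
    exacts [Or.inl h, Or.inr (Or.inl h), Or.inr (Or.inr h)]
  obtain ⟨t, ht, hfix⟩ : ∃ t, Sing Q t ∧ f t = t := by
    have sP : Sing Q P := (sing_diag fr D hle hQ (o := ge fr 0) (i := 0) (Or.inl rfl)).1
    have sM : Sing Q M := by
      have := (sing_diag fr D hle hQ (o := -ge fr 0) (i := 0) (Or.inr rfl)).2
      rwa [neg_neg] at this
    rcases step r0 (Or.inl rfl) with h | h | h
    · exact ⟨r0, ⟨1, one_mem _, by rw [one_mul, inv_one, mul_one]⟩, h⟩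
    · refine ⟨M, sM, ?_⟩
      rcases step M (Or.inr (Or.inr rfl)) with h' | h' | h'
      · exact absurd (finj (h'.trans (show r0 = f P by rw [← h, ff]))) PM.symm
      · exact absurd (finj (h'.trans h.symm)) MR
      · exact h'
    · refine ⟨P, sP, ?_⟩
      rcases step P (Or.inr (Or.inl rfl)) with h' | h' | h'
      · exact absurd (finj (h'.trans (show r0 = f M by rw [← h, ff]))) PM
      · exact h'
      · exact absurd (finj (h'.trans h.symm)) PR
  obtain ⟨n, hn, rfl⟩ := ht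
  set h2 := n⁻¹ * g with hh2
  have h2H : h2 ∈ H := mul_mem (inv_mem (hN hn)) hg
  have hc : Commute (h2 * -(r0 : G8 F) * h2⁻¹) r0 := by
    have e : Commute r2 (n * r0 * n⁻¹) := mul_inv_eq_iff_eq_mul.1 hfix
    have := congrArg (fun z => n⁻¹ * z * n) e.eq
    show h2 * -(r0 : G8 F) * h2⁻¹ * r0 = r0 * (h2 * -(r0 : G8 F) * h2⁻¹)
    rw [hh2]
    simpa [hr2, mul_assoc] using this
  rw [mul_neg, neg_mul, Commute.neg_left_iff] at hc
  obtain ⟨n2, hn2, e2⟩ := sing_of_comm fr D hle hQ hN hC h2H hc.eq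
  have := hC _ (mul_mem (inv_mem (hN hn2)) h2H) (by
    have := congrArg (fun z => n2⁻¹ * z * h2) e2
    simpa [mul_assoc] using this)
  have h3 := mul_mem hn (mul_mem hn2 this)
  rwa [mul_inv_cancel_left, hh2, mul_inv_cancel_left] at h3

/-- The overgroup is the normaliser. -/
theorem le_normalizer : H ≤ N8 Q := by
  intro h hh
  set u' := h * u4 fr * h⁻¹ with hu'
  have uH : u' ∈ H := mul_mem (mul_mem hh (hN (u4_mem fr D hle hQ))) (inv_mem hh)
  have plane : ∀ {n : G8 F}, n ∈ N8 Q → u' = n * u4 fr * n⁻¹ → h ∈ N8 Q := by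
    intro n hn e
    have := control_u4 fr D hle hQ hN hH hC (mul_mem (inv_mem (hN hn)) hh) (by
      have := congrArg (fun z => n⁻¹ * z * h) (hu'.symm.trans e)
      simpa [mul_assoc] using this)
    simpa using mul_mem hn this
  rcases pair fr D hle hQ hN hC hh with ⟨j, hj, hc⟩ | ⟨j, k, o, l, ho, hv, hk, hc, hkz, -⟩
  · have uN : u' ∈ N8 Q := control_sing fr D hle hQ hN hC uH hj hc
    obtain ⟨n, hn, rfl⟩ := hj
    set v := n⁻¹ * u' * n with hv
    have hvN : v ∈ N8 Q := mul_mem (mul_mem (inv_mem hn) uN) hn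
    have hvr : v * r0 = r0 * v := by
      have := congrArg (fun z => n⁻¹ * z * n) hc
      simpa [hv, hu', mul_assoc] using this
    obtain ⟨o, l, ho, hv'⟩ := side_of_trace fr D hle hQ hvN hvr
      (by rw [hv, hu', show n⁻¹ * (h * u4 fr * h⁻¹) * n * (n⁻¹ * (h * u4 fr * h⁻¹) * n) =
        n⁻¹ * (h * (u4 fr * u4 fr) * h⁻¹) * n by group, u4_sq fr D, mul_one, mul_inv_cancel, mul_one, inv_mul_cancel])
      (by rw [hv, show n⁻¹ * u' * n = n⁻¹ * u' * n⁻¹⁻¹ by rw [inv_inv], trace_conj, hu', trace_conj, trace_u4 fr D])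
      (fun e => by
        rw [hv, hu'] at e
        have h1 := congrArg (fun z => h⁻¹ * (n * z * n⁻¹) * h) e
        simp [mul_assoc] at h1
        rw [u4, ← bd_one, bd_neg] at h1
        exact ne_neg_self fr D 1 (bd_inj h1).1)
    have hp : Plane fr Q v := by
      rcases hv' with e | e <;> rw [e]
      exacts [(plane_side fr D hle hQ ho).1, (plane_side fr D hle hQ ho).2]
    obtain ⟨m, hm, e⟩ := plane_conj fr D hle hQ hn hp
    exact plane hm (by rw [← e, hv]; group)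
  · have jv : j = r0 * (r0 * j) := by rw [← mul_assoc, r0_sq, one_mul]
    obtain ⟨P, ⟨n, hn, hP⟩, hPc⟩ : ∃ P, Plane fr Q P ∧ Commute u' P := by
      rcases hv with hv | hv
      · refine ⟨j, ?_, hc⟩
        rw [jv, hv, r0, bd_mul, one_mul, neg_one_mul]
        exact (plane_side fr D hle hQ (Sgn.neg fr ho)).1
      · refine ⟨-j, ?_, (show Commute u' j from hc).neg_right⟩
        rw [jv, hv, r0, bd_mul, bd_neg, one_mul, neg_one_mul, neg_neg]
        simpa using (plane_side fr D hle hQ (Sgn.neg fr ho)).2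
    have uN : u' ∈ N8 Q := by
      have := control_u4 fr D hle hQ hN hH hC (mul_mem (mul_mem (inv_mem (hN hn)) uH) (hN hn)) (by
        have := congrArg (fun z => n⁻¹ * z * n) hPc.eq
        simpa [hP, mul_assoc] using this)
      simpa [mul_assoc] using mul_mem (mul_mem hn this) (inv_mem hn)
    have kN : k ∈ N8 Q :=
      Subgroup.zpowers_le.2 (mul_mem (Q_le_N8 fr D hle hQ (r0_mem fr D hle hQ)) uN) hkz
    have hp : Plane fr Q (r0 * j) := by
      rcases hv with e | e <;> rw [e]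
      exacts [(plane_side fr D hle hQ ho).1, (plane_side fr D hle hQ ho).2]
    obtain ⟨m, hm, e⟩ := plane_conj fr D hle hQ kN hp
    exact plane hm (by rw [← e, hk])

omit hN hH hC in
/-- An overgroup of the normaliser is the normaliser or contains both block subgroups. -/
theorem le_or_all (p : ℕ) [Fact p.Prime] [CharP F p] (hcard : Nat.card F = p) {H : Subgroup (G8 F)} (hN : N8 Q ≤ H)
    (hH : H ≤ sp8 F) : H ≤ N8 Q ∨ ∀ a ∈ spGL 2 F, ∀ b ∈ spGL 2 F, bd a b ∈ H :=
  (control fr D hle hQ p hcard hN hH).imp_left fun hC => le_normalizer fr D hle hQ hN hH hC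

omit hN hH hC in
/-- The normaliser is proper. -/
theorem normalizer_lt (p : ℕ) [Fact p.Prime] [CharP F p] (hcard : Nat.card F = p) : N8 Q < sp8 F := by
  refine lt_of_le_of_ne inf_le_right fun e => ?_
  refine (maximal_normalizer fr D hle p hcard).1.not_ge fun a ha => ?_
  have : bd a a ∈ N8 Q := e ▸ bd_mem ha ha
  exact (of_bd_mem_N8 fr D hle hQ this).1

end CfsgLib.ExtraSpEight
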