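import Cfsg.Agent.Lib.ExtraSpEight.Pairs

/-!
The two-dimensional negative spaces of plane involutions: commuting involutions act on them by scalars, and a
further element of the normaliser mixing the two blocks.
-/

set_option autoImplicit false
set_option linter.unusedSectionVars false
set_option linter.unusedSimpArgs false

namespace CfsgLib.ExtraSpEight

open Matrix Cfsg CfsgLib.Sp4Odd CfsgLib.PrimeElusive.SymplType

open scoped MatrixGroups

variable {F : Type*} [Field F] {R : Subgroup (GL I4 F)}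
  (fr : PrimeElusive.SymplType.Frame R) (D : Data R 2) (hle : R ≤ spGL 2 F) {Q : Subgroup (G8 F)}
  (hQ : Model R Q)

theorem sp8_dot {b : G8 F} (hb : b ∈ sp8 F) (v w : I4 ⊕ I4 → F) :
    mt b *ᵥ v ⬝ᵥ J8 F *ᵥ (mt b *ᵥ w) = v ⬝ᵥ J8 F *ᵥ w := by
  rw [Matrix.mulVec_mulVec, ← Matrix.vecMul_transpose, ← Matrix.dotProduct_mulVec, Matrix.mulVec_mulVec,
    ← mul_assoc, mem_sp8.1 hb]

theorem dot_J_skew (v w : I4 → F) : v ⬝ᵥ J (Fin 2) F *ᵥ w = -(w ⬝ᵥ J (Fin 2) F *ᵥ v) := by
  rw [Matrix.dotProduct_mulVec, ← Matrix.mulVec_transpose, Matrix.J_transpose, Matrix.neg_mulVec, neg_dotProduct,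
    dotProduct_comm]

include fr D

theorem gen0_of_pm {y : I4 → F} (hy : pm fr 0 *ᵥ y = y) : gen fr 0 *ᵥ y = -y := by
  conv_lhs => rw [← hy]
  rw [Matrix.mulVec_mulVec, gen_pm fr D, Matrix.neg_mulVec, hy]

theorem gen0_of_pp {y : I4 → F} (hy : pp fr 0 *ᵥ y = y) : gen fr 0 *ᵥ y = y := by
  conv_lhs => rw [← hy]
  rw [Matrix.mulVec_mulVec, gen_pp fr D, hy]

theorem pm_of_pp {y : I4 → F} (hy : pp fr 0 *ᵥ y = y) : pm fr 0 *ᵥ y = 0 := by
  rw [← hy, Matrix.mulVec_mulVec, pm_pp fr D, Matrix.zero_mulVec]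

theorem pp_of_gen0 {y : I4 → F} (hy : gen fr 0 *ᵥ y = y) : pp fr 0 *ᵥ y = y := by
  rw [pp, Matrix.smul_mulVec, Matrix.add_mulVec, Matrix.one_mulVec, hy, ← two_smul F y, smul_smul,
    inv_mul_cancel₀ D.two, one_smul]

theorem pm_of_gen0 {y : I4 → F} (hy : gen fr 0 *ᵥ y = -y) : pm fr 0 *ᵥ y = y := by
  rw [pm, Matrix.smul_mulVec, Matrix.sub_mulVec, Matrix.one_mulVec, hy, sub_neg_eq_add, ← two_smul F y, smul_smul,
    inv_mul_cancel₀ D.two, one_smul]

/-- The fixed space and the negative space of an involution are planes. -/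
theorem finrank_proj : Module.finrank F (pp fr 0).mulVecLin.range = 2 ∧
    Module.finrank F (pm fr 0).mulVecLin.range = 2 := by
  classical
  have hc : IsCompl (pp fr 0).mulVecLin.range (pm fr 0).mulVecLin.range := by
    constructor
    · rw [Submodule.disjoint_def]
      rintro v ⟨a, ha⟩ ⟨b, hb⟩
      simp only [Matrix.mulVecLin_apply] at ha hb
      have h1 : pp fr 0 *ᵥ v = v := by rw [← ha, Matrix.mulVec_mulVec, pp_pp fr D]
      rw [← h1, ← hb, Matrix.mulVec_mulVec, pp_pm fr D, Matrix.zero_mulVec]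
    · rw [codisjoint_iff, eq_top_iff]
      intro v _
      rw [show v = pp fr 0 *ᵥ v + pm fr 0 *ᵥ v by rw [← Matrix.add_mulVec, pp_add_pm fr D, Matrix.one_mulVec]]
      exact Submodule.add_mem_sup ⟨v, rfl⟩ ⟨v, rfl⟩
  have hsum := Submodule.finrank_add_eq_of_isCompl hc
  rw [Module.finrank_fintype_fun_eq_card] at hsum
  have hu : IsUnit (gen fr 1).det := by
    refine IsUnit.of_mul_eq_one (gen fr 1).det ?_
    rw [← Matrix.det_mul, gen_sq fr D, Matrix.det_one]
  have hconj : pm fr 0 = gen fr 1 * pp fr 0 * gen fr 1 := by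
    rw [(anti_pp fr D 0 (gen_anti fr D (by decide : (1 : Fin 5) ≠ 0))).1, mul_assoc, gen_sq fr D, mul_one]
  have heq : (pm fr 0).rank = (pp fr 0).rank := by
    rw [hconj, Matrix.rank_mul_eq_left_of_isUnit_det _ _ hu, Matrix.rank_mul_eq_right_of_isUnit_det _ _ hu]
  simp only [Matrix.rank] at heq
  simp [Fintype.card_sum] at hsum
  omega

/-- The negative space of the plane involution. -/
theorem u4_neg {v : I4 ⊕ I4 → F} :
    mt (u4 fr) *ᵥ v = -v ↔ v ∘ Sum.inl = 0 ∧ pm fr 0 *ᵥ (v ∘ Sum.inr) = v ∘ Sum.inr := by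
  obtain ⟨x, y, rfl⟩ : ∃ x y, v = Sum.elim x y := ⟨_, _, (Sum.elim_comp_inl_inr v).symm⟩
  rw [u4, mt_bd, Matrix.fromBlocks_mulVec, Sum.elim_comp_inl, Sum.elim_comp_inr, mt_one, mt_ge]
  simp only [Matrix.one_mulVec, Matrix.zero_mulVec, add_zero, zero_add]
  constructor
  · intro h
    have h1 : x = -x := funext fun i => congrFun h (Sum.inl i)
    have h2 : gen fr 0 *ᵥ y = -y := funext fun i => congrFun h (Sum.inr i)
    refine ⟨?_, pm_of_gen0 fr D h2⟩
    have : (2 : F) • x = 0 := by rw [two_smul]; nth_rw 2 [h1]; exact add_neg_cancel x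
    exact (smul_eq_zero.1 this).resolve_left D.two
  · rintro ⟨rfl, hy⟩
    rw [gen0_of_pm fr D hy]
    ext (i | i) <;> simp

include hle

/-- An involution centralising the plane involution is scalar on its negative space. -/
theorem side_invol {b : G8 F} (hb : b ∈ sp8 F) (hbb : b * b = 1) (hc : b * u4 fr = u4 fr * b) :
    (∀ v, mt (u4 fr) *ᵥ v = -v → mt b *ᵥ v = v) ∨ (∀ v, mt (u4 fr) *ᵥ v = -v → mt b *ᵥ v = -v) := by
  classical
  by_contra hcon
  push Not at hcon
  obtain ⟨⟨v1, hv1, hn1⟩, v2, hv2, hn2⟩ := hcon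
  have bb : ∀ v, mt b *ᵥ (mt b *ᵥ v) = v := fun v => by
    rw [Matrix.mulVec_mulVec, ← Units.val_mul, hbb, Units.val_one, Matrix.one_mulVec]
  have neg : ∀ v, mt (u4 fr) *ᵥ v = -v → mt (u4 fr) *ᵥ (mt b *ᵥ v) = -(mt b *ᵥ v) := fun v hv => by
    rw [Matrix.mulVec_mulVec, ← Units.val_mul, ← hc, Units.val_mul, ← Matrix.mulVec_mulVec, hv, Matrix.mulVec_neg]
  set a8 := v1 - mt b *ᵥ v1 with ha8
  set c8 := v2 + mt b *ᵥ v2 with hc8
  have ba : mt b *ᵥ a8 = -a8 := by rw [ha8, Matrix.mulVec_sub, bb, neg_sub]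
  have bc : mt b *ᵥ c8 = c8 := by rw [hc8, Matrix.mulVec_add, bb, add_comm]
  have ua : mt (u4 fr) *ᵥ a8 = -a8 := by rw [ha8, Matrix.mulVec_sub, hv1, neg _ hv1, neg_sub, neg_sub_neg]
  have uc : mt (u4 fr) *ᵥ c8 = -c8 := by rw [hc8, Matrix.mulVec_add, hv2, neg _ hv2, neg_add]
  have a0 : a8 ≠ 0 := fun h => hn1 (sub_eq_zero.1 (ha8 ▸ h)).symm
  have c0 : c8 ≠ 0 := fun h => hn2 (eq_neg_of_add_eq_zero_right (hc8 ▸ h))
  obtain ⟨al, ar⟩ := (u4_neg fr D).1 ua
  obtain ⟨cl, cr⟩ := (u4_neg fr D).1 uc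
  set a := a8 ∘ Sum.inr with ha
  set c := c8 ∘ Sum.inr with hc'
  have ea : a8 = Sum.elim (0 : I4 → F) a := by rw [← al, ha, Sum.elim_comp_inl_inr]
  have ec : c8 = Sum.elim (0 : I4 → F) c := by rw [← cl, hc', Sum.elim_comp_inl_inr]
  have hac : a ⬝ᵥ J (Fin 2) F *ᵥ c = 0 := by
    have h1 := sp8_dot hb a8 c8
    rw [ba, bc, neg_dotProduct, ea, ec] at h1
    simp [J8, Matrix.fromBlocks_mulVec, sumElim_dotProduct_sumElim] at h1
    have h2 : (2 : F) * (a ⬝ᵥ J (Fin 2) F *ᵥ c) = 0 := by linear_combination -h1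
    exact (mul_eq_zero.1 h2).resolve_left D.two
  have haa : a ⬝ᵥ J (Fin 2) F *ᵥ a = 0 := by
    have h1 := dot_J_skew (F := F) a a
    have h2 : (2 : F) * (a ⬝ᵥ J (Fin 2) F *ᵥ a) = 0 := by linear_combination h1
    exact (mul_eq_zero.1 h2).resolve_left D.two
  have hind : LinearIndependent F ![a, c] := by
    rw [LinearIndependent.pair_iff]
    intro s t hst
    have e : s • a8 + t • c8 = 0 := by
      rw [ea, ec]; funext k; rcases k with k | k
      · simp
      · simpa using congrFun hst k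
    have e' := congrArg (fun v => mt b *ᵥ v) e
    simp only [Matrix.mulVec_add, Matrix.mulVec_smul, ba, bc, Matrix.mulVec_zero] at e'
    have s0 : (2 * s) • a8 = 0 := by linear_combination (norm := module) e - e'
    have t0 : (2 * t) • c8 = 0 := by linear_combination (norm := module) e + e'
    exact ⟨(mul_eq_zero.1 ((smul_eq_zero.1 s0).resolve_right a0)).resolve_left D.two,
      (mul_eq_zero.1 ((smul_eq_zero.1 t0).resolve_right c0)).resolve_left D.two⟩
  have hspan : Submodule.span F (Set.range ![a, c]) = (pm fr 0).mulVecLin.range := by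
    refine Submodule.eq_of_le_of_finrank_le (Submodule.span_le.2 ?_) ?_
    · rintro w ⟨k, rfl⟩
      fin_cases k
      exacts [⟨a, ar⟩, ⟨c, cr⟩]
    · rw [finrank_span_eq_card hind, (finrank_proj fr D).2, Fintype.card_fin]
  have hJ : J (Fin 2) F *ᵥ a = 0 := by
    have key : ∀ x : I4 → F, x ⬝ᵥ J (Fin 2) F *ᵥ a = 0 := by
      intro x
      have hm : pm fr 0 *ᵥ x ∈ Submodule.span F (Set.range ![a, c]) := by rw [hspan]; exact ⟨x, rfl⟩
      rw [Matrix.range_cons_cons_empty, Submodule.mem_span_pair] at hm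
      obtain ⟨s, t, hst⟩ := hm
      rw [show x = pp fr 0 *ᵥ x + pm fr 0 *ᵥ x by rw [← Matrix.add_mulVec, pp_add_pm fr D, Matrix.one_mulVec],
        add_dotProduct]
      have h1 : pp fr 0 *ᵥ x ⬝ᵥ J (Fin 2) F *ᵥ a = 0 := by
        rw [← Matrix.vecMul_transpose, ← Matrix.dotProduct_mulVec, Matrix.mulVec_mulVec, (proj_adj fr D hle 0).1,
          ← ar, Matrix.mulVec_mulVec, mul_assoc, pp_pm fr D, mul_zero, Matrix.zero_mulVec, dotProduct_zero]
      rw [h1, ← hst, add_dotProduct, smul_dotProduct, smul_dotProduct, haa, dot_J_skew, hac, neg_zero, smul_zero,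
        smul_zero, add_zero, add_zero]
    funext k
    simpa using key (Pi.single k 1)
  have : a = 0 := by
    have h := congrArg (fun v => J (Fin 2) F *ᵥ v) hJ
    simpa [Matrix.mulVec_mulVec, Matrix.J_squared, Matrix.neg_mulVec] using h
  exact a0 (by rw [ea, this]; funext k; rcases k <;> rfl)

/-- Distinct commuting plane involutions: each fixes the negative space of the other. -/
theorem commute_fix {h h' : G8 F} (hh : h ∈ sp8 F) (hh' : h' ∈ sp8 F) {a b : G8 F} (ha : a = h * u4 fr * h⁻¹)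
    (hb : b = h' * u4 fr * h'⁻¹) (hc : a * b = b * a) (hne : a ≠ b) (hu : u4 fr ∈ sp8 F) :
    ∀ v, mt a *ᵥ v = -v → mt b *ᵥ v = v := by
  classical
  have scal : ∀ {h h' a b : G8 F}, h ∈ sp8 F → h' ∈ sp8 F → a = h * u4 fr * h⁻¹ → b = h' * u4 fr * h'⁻¹ →
      a * b = b * a → (∀ v, mt a *ᵥ v = -v → mt b *ᵥ v = v) ∨ (∀ v, mt a *ᵥ v = -v → mt b *ᵥ v = -v) := by
    intro h h' a b hh hh' ha hb hc
    have hbs : b ∈ sp8 F := hb ▸ mul_mem (mul_mem hh' hu) (inv_mem hh')
    have hbb : b * b = 1 := by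
      rw [hb, show h' * u4 fr * h'⁻¹ * (h' * u4 fr * h'⁻¹) = h' * (u4 fr * u4 fr) * h'⁻¹ by group, u4_sq fr D,
        mul_one, mul_inv_cancel]
    have key := side_invol fr D hle (b := h⁻¹ * b * h) (mul_mem (mul_mem (inv_mem hh) hbs) hh)
      (by rw [show h⁻¹ * b * h * (h⁻¹ * b * h) = h⁻¹ * (b * b) * h by group, hbb, mul_one, inv_mul_cancel])
      (by
        have e : u4 fr = h⁻¹ * a * h := by rw [ha]; group
        rw [e, show h⁻¹ * b * h * (h⁻¹ * a * h) = h⁻¹ * (b * a) * h by group, ← hc]; group)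
    have tr : ∀ v, mt a *ᵥ v = -v → mt (u4 fr) *ᵥ (mt h⁻¹ *ᵥ v) = -(mt h⁻¹ *ᵥ v) := by
      intro v hv
      rw [Matrix.mulVec_mulVec, ← Units.val_mul, show u4 fr * h⁻¹ = h⁻¹ * a by rw [ha]; group, Units.val_mul,
        ← Matrix.mulVec_mulVec, hv, Matrix.mulVec_neg]
    have back : ∀ v, mt h *ᵥ (mt (h⁻¹ * b * h) *ᵥ (mt h⁻¹ *ᵥ v)) = mt b *ᵥ v := by
      intro v
      rw [Matrix.mulVec_mulVec, Matrix.mulVec_mulVec, ← Units.val_mul, ← Units.val_mul,
        show h * (h⁻¹ * b * h) * h⁻¹ = b by group]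
    have canc : ∀ v, mt h *ᵥ (mt h⁻¹ *ᵥ v) = v := fun v => by
      rw [Matrix.mulVec_mulVec, Units.mul_inv, Matrix.one_mulVec]
    rcases key with k | k
    · exact Or.inl fun v hv => by rw [← back, k _ (tr v hv), canc]
    · exact Or.inr fun v hv => by rw [← back, k _ (tr v hv), Matrix.mulVec_neg, canc]
  rcases scal hh hh' ha hb hc with k | k
  · exact k
  rcases scal hh' hh hb ha hc.symm with k' | k'
  · intro v hv
    have h1 := k' v (k v hv)
    rw [hv] at h1
    have h2 : (2 : F) • v = 0 := by rw [two_smul]; nth_rw 2 [← h1]; exact add_neg_cancel v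
    rw [(smul_eq_zero.1 h2).resolve_left D.two, Matrix.mulVec_zero]
  exfalso
  have sq : ∀ {h a : G8 F}, a = h * u4 fr * h⁻¹ → ∀ v, mt a *ᵥ (mt a *ᵥ v) = v := fun {h a} ha v => by
    rw [Matrix.mulVec_mulVec, ← Units.val_mul, ha,
      show h * u4 fr * h⁻¹ * (h * u4 fr * h⁻¹) = h * (u4 fr * u4 fr) * h⁻¹ by group, u4_sq fr D, mul_one,
      mul_inv_cancel, Units.val_one, Matrix.one_mulVec]
  refine hne (Units.ext (Matrix.ext_of_mulVec_single fun i => ?_))
  set v : I4 ⊕ I4 → F := Pi.single i 1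
  have hm : mt a *ᵥ (v - mt a *ᵥ v) = -(v - mt a *ᵥ v) := by rw [Matrix.mulVec_sub, sq ha, neg_sub]
  have h1 := k _ hm
  have hp : mt a *ᵥ (v + mt a *ᵥ v) = v + mt a *ᵥ v := by rw [Matrix.mulVec_add, sq ha, add_comm]
  set z := v + mt a *ᵥ v
  have hm' : mt b *ᵥ (z - mt b *ᵥ z) = -(z - mt b *ᵥ z) := by rw [Matrix.mulVec_sub, sq hb, neg_sub]
  have h2 := k' _ hm'
  rw [Matrix.mulVec_sub, hp, Matrix.mulVec_mulVec, ← Units.val_mul, hc, Units.val_mul, ← Matrix.mulVec_mulVec, hp,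
    neg_sub] at h2
  have h3 : mt b *ᵥ z = z := by
    have h4 : (2 : F) • (z - mt b *ᵥ z) = 0 := by rw [two_smul]; nth_rw 2 [h2]; abel
    exact (sub_eq_zero.1 ((smul_eq_zero.1 h4).resolve_left D.two)).symm
  simp only [z, Matrix.mulVec_add, Matrix.mulVec_sub] at h1 h3
  have h5 : (2 : F) • (mt a *ᵥ v - mt b *ᵥ v) = 0 := by linear_combination (norm := module) -h1 - h3
  exact sub_eq_zero.1 ((smul_eq_zero.1 h5).resolve_left D.two)

omit hle in
theorem Sgn.anti {o : GL I4 F} {i : Fin 5} (h : Sgn fr o i) (hi : i ≠ 0) :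
    mt o * gen fr 0 = -(gen fr 0 * mt o) := by
  rcases h with rfl | rfl <;> simp [mt_neg, mt_ge, gen_anti fr D hi]

omit hle in
theorem n13_u4 : n13 fr D 0 * u4 fr = u4 fr * n13 fr D 0 := by
  refine Units.ext ?_
  show fromBlocks (pm fr 0) (pp fr 0) (pp fr 0) (pm fr 0) * mt (u4 fr) =
    mt (u4 fr) * fromBlocks (pm fr 0) (pp fr 0) (pp fr 0) (pm fr 0)
  have e1 := gen_pp fr D 0
  have e2 := (comm_pp fr D 0 (A := gen fr 0) rfl)
  simp [u4, mt_bd, mt_one, mt_ge, fromBlocks_multiply, ← e2.1, ← e2.2, e1]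

/-- The half of one plus the product of two involutions. -/
noncomputable def half : Matrix I4 I4 F := (2 : F)⁻¹ • (1 + mt (ge fr 2 * ge fr 3))

/-- The half of one minus the product. -/
noncomputable def half' : Matrix I4 I4 F := (2 : F)⁻¹ • (1 - mt (ge fr 2 * ge fr 3))

omit hle in
theorem qsq : mt (ge fr 2 * ge fr 3) * mt (ge fr 2 * ge fr 3) = -1 := by
  rw [mt_mul, mt_ge, mt_ge, mul_assoc, ← mul_assoc (gen fr 3), gen_anti fr D (by decide : (3 : Fin 5) ≠ 2), neg_mul,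
    mul_assoc, gen_sq fr D, mul_one, mul_neg, gen_sq fr D]

omit hle in
theorem half_mul : half fr * half' fr = (2 : F)⁻¹ • 1 ∧ half' fr * half fr = (2 : F)⁻¹ • 1 := by
  constructor <;>
  · rw [half, half', smul_mul_smul_comm]
    simp only [add_mul, mul_add, sub_mul, mul_sub, one_mul, mul_one, qsq fr D]
    have h2 := D.two
    match_scalars <;> field_simp <;> ring

omit hle in
/-- The mixing element. -/
noncomputable def hd : G8 F :=
  ⟨fromBlocks (half fr) (half fr) (half fr) (-half fr), fromBlocks (half' fr) (half' fr) (half' fr) (-half' fr),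
    by
      rw [fromBlocks_multiply, ← fromBlocks_one]
      simp only [neg_mul, mul_neg, neg_neg, (half_mul fr D).1, add_neg_cancel, ← add_smul]
      rw [show (2 : F)⁻¹ + 2⁻¹ = 1 by rw [← two_mul, mul_inv_cancel₀ D.two], one_smul],
    by
      rw [fromBlocks_multiply, ← fromBlocks_one]
      simp only [neg_mul, mul_neg, neg_neg, (half_mul fr D).2, add_neg_cancel, ← add_smul]
      rw [show (2 : F)⁻¹ + 2⁻¹ = 1 by rw [← two_mul, mul_inv_cancel₀ D.two], one_smul]⟩

omit hle in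
theorem mt_hd : mt (hd fr D) = fromBlocks (half fr) (half fr) (half fr) (-half fr) := rfl

omit hle in
theorem mt_hd_inv : mt (hd fr D)⁻¹ = fromBlocks (half' fr) (half' fr) (half' fr) (-half' fr) := rfl

omit hle in
/-- Moving an element of the group across the half. -/
theorem half_pass {o : GL I4 F} (ho : o ∈ R) : ∃ k ∈ R, mt o * half fr = half fr * mt k ∧
    ∃ k' ∈ R, half fr * mt o = mt k' * half fr := by
  set q := ge fr 2 * ge fr 3 with hq
  have qR : q ∈ R := R.mul_mem (ge_mem fr 2) (ge_mem fr 3)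
  have hs := qsq fr D
  rw [← hq] at hs
  rcases D.sgn o ho q qR with h | h
  · have h' : mt o * mt q = mt q * mt o := congrArg Units.val h
    refine ⟨o, ho, ?_, o, ho, ?_⟩ <;> simp only [half, ← hq, mul_smul_comm, smul_mul_assoc, mul_add, add_mul, mul_one,
      one_mul, h']
  · have h' : mt o * mt q = -(mt q * mt o) := h
    refine ⟨-(q * o), neg_mem_R fr D (R.mul_mem qR ho), ?_, q * o, R.mul_mem qR ho, ?_⟩
    · simp only [half, ← hq, mt_neg, mt_mul, mul_smul_comm, smul_mul_assoc, mul_add, add_mul, mul_one, one_mul,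
        mul_neg, h', ← mul_assoc, hs, neg_mul, neg_neg]
      module
    · simp only [half, ← hq, mt_mul, mul_smul_comm, smul_mul_assoc, mul_add, add_mul, mul_one, one_mul, mul_assoc, h',
        mul_neg]
      simp only [← mul_assoc, hs, neg_mul, neg_neg, one_mul]
      module

variable [Finite F]
include hQ

theorem hd_mem : hd fr D ∈ N8 Q := by
  obtain ⟨hg, hg'⟩ := half_mul fr D
  have two_half : (2 : F)⁻¹ + 2⁻¹ = 1 := by rw [← two_mul, mul_inv_cancel₀ D.two]
  have hsp : hd fr D ∈ sp8 F := by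
    set q := ge fr 2 * ge fr 3 with hq
    have qsp : q ∈ spGL 2 F := hle (R.mul_mem (ge_mem fr 2) (ge_mem fr 3))
    have hJq : (mt q)ᵀ * J (Fin 2) F = -(J (Fin 2) F * mt q) := by
      have e := congrArg (fun M => M * mt q) (spGL_iff.1 qsp)
      simp only [mul_assoc] at e
      rw [qsq fr D, mul_neg, mul_one, mul_neg] at e
      rw [← neg_neg ((mt q)ᵀ * J (Fin 2) F), e]
    have e : (half fr)ᵀ * J (Fin 2) F = J (Fin 2) F * half' fr := by
      simp [half, half', ← hq, Matrix.transpose_smul, Matrix.transpose_add, add_mul, mul_add, mul_sub, hJq, sub_eq_add_neg]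
    rw [mem_sp8, mt_hd, J8, fromBlocks_transpose, fromBlocks_multiply, fromBlocks_multiply]
    simp only [Matrix.transpose_neg, neg_mul, mul_neg, neg_neg, mul_zero, add_zero, zero_add, e, mul_assoc, hg',
      mul_smul_comm, mul_one, add_neg_cancel, ← add_smul, two_half, one_smul]
  refine mem_N8_of fr D hle hQ hsp (fun o ho => ?_) ?_ ?_
  · obtain ⟨-, -, -, k, hk, e⟩ := half_pass fr D ho
    convert (bd_diag_mem fr D hle hQ hk).1 using 1
    refine Units.ext ?_
    show mt (hd fr D) * mt (bd o o) * mt (hd fr D)⁻¹ = mt (bd k k)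
    rw [mt_hd, mt_hd_inv, mt_bd, mt_bd, fromBlocks_multiply, fromBlocks_multiply]
    simp only [mul_zero, add_zero, zero_add, neg_mul, mul_neg, neg_neg, e, mul_assoc, hg, mul_smul_comm, mul_one,
      add_neg_cancel, ← add_smul, two_half, one_smul]
  · convert sw_mem_Q fr D hle hQ using 1
    refine Units.ext ?_
    show mt (hd fr D) * mt (bd 1 (-1) : G8 F) * mt (hd fr D)⁻¹ = mt (sw : G8 F)
    rw [mt_hd, mt_hd_inv, mt_bd, mt_sw, fromBlocks_multiply, fromBlocks_multiply]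
    simp only [mt_neg, mt_one, mul_zero, add_zero, zero_add, neg_mul, mul_neg, neg_neg, mul_one, hg,
      add_neg_cancel, ← add_smul, two_half, one_smul]
  · convert r0_mem fr D hle hQ using 1
    refine Units.ext ?_
    show mt (hd fr D) * mt (sw : G8 F) * mt (hd fr D)⁻¹ = mt (r0 : G8 F)
    rw [r0, mt_hd, mt_hd_inv, mt_bd, mt_sw, fromBlocks_multiply, fromBlocks_multiply]
    simp only [mt_neg, mt_one, mul_zero, add_zero, zero_add, neg_mul, mul_neg, neg_neg, mul_one, hg, neg_add_cancel,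
      add_neg_cancel, ← add_smul, ← neg_add, two_half, one_smul]

end CfsgLib.ExtraSpEight
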